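import Cfsg.Agent.Lib.Components.GenFitting
import Cfsg.Agent.Lib.Coprime.Generation
import Cfsg.Agent.Lib.Transfer.Residual

/-!
`O_p(H)`, `F*(H)` and `O^p(F*(H))` of a subgroup as subgroups of the ambient group.

* `rf_eq_closure` : `O^p(F*(H))` is generated by the `p'`-elements of `F*(H)`
* `rf_le_centralizer_op` : it centralises `O_p(H)`
* `fstar_le` : `F*(H) ≤ O_p(H) O^p(F*(H))`
* `fstar_mono`, `fstar_eq_self`
-/

set_option autoImplicit false
set_option linter.unusedSectionVars false
set_option linter.style.haveILetI false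

open scoped Pointwise commutatorElement

namespace Cfsg.Agent.CentRes

open Subgroup

universe u

variable {X : Type u} [Group X] [Finite X] (p : ℕ)

/-- `O_p(H)`. -/
def op (H : Subgroup X) : Subgroup X := (Cfsg.pCore p H).map H.subtype

/-- `F*(H)`. -/
def fstar (H : Subgroup X) : Subgroup X := (Cfsg.generalizedFittingSubgroup H).map H.subtype

/-- `O^p(F*(H))`. -/
def rf (H : Subgroup X) : Subgroup X :=
  ((Cfsg.pResidual p ↥(Cfsg.generalizedFittingSubgroup H)).map
    (Cfsg.generalizedFittingSubgroup H).subtype).map H.subtype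

theorem op_le (H : Subgroup X) : op p H ≤ H := map_subtype_le _

theorem fstar_le_self (H : Subgroup X) : fstar H ≤ H := map_subtype_le _

theorem rf_le_fstar (H : Subgroup X) : rf p H ≤ fstar H := map_mono (map_subtype_le _)

theorem rf_le (H : Subgroup X) : rf p H ≤ H := map_subtype_le _

theorem rf_eq_closure (H : Subgroup X) :
    rf p H = closure {g : X | g ∈ fstar H ∧ (orderOf g).Coprime p} := by
  rw [rf, Transfer.map_pResidual_subtype, MonoidHom.map_closure]
  congr 1
  ext g
  constructor
  · rintro ⟨h, ⟨hh, hc⟩, rfl⟩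
    exact ⟨⟨h, hh, rfl⟩, by rw [Subgroup.coe_subtype, Subgroup.orderOf_coe]; exact hc⟩
  · rintro ⟨⟨h, hh, rfl⟩, hc⟩
    rw [Subgroup.coe_subtype, Subgroup.orderOf_coe] at hc
    exact ⟨h, ⟨hh, hc⟩, rfl⟩

theorem mem_rf {H : Subgroup X} {g : X} (hg : g ∈ fstar H) (hc : (orderOf g).Coprime p) :
    g ∈ rf p H := by
  rw [rf_eq_closure]
  exact subset_closure ⟨hg, hc⟩

theorem le_rf_of_closure {H Y : Subgroup X} (hY : Y ≤ fstar H)
    (h : Y ≤ closure {g : X | g ∈ Y ∧ (orderOf g).Coprime p}) : Y ≤ rf p H :=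
  h.trans ((closure_le _).2 fun _ hg => mem_rf p (hY hg.1) hg.2)

/-- `O^p(F*(H))` is generated by its own `p'`-elements. -/
theorem rf_le_closure_self (H : Subgroup X) :
    rf p H ≤ closure {g : X | g ∈ rf p H ∧ (orderOf g).Coprime p} := by
  refine (rf_eq_closure p H).le.trans ((closure_le _).2 fun g hg => ?_)
  exact subset_closure ⟨mem_rf p hg.1 hg.2, hg.2⟩

theorem le_normalizer_op {H : Subgroup X} :
    normalizer (H : Set X) ≤ normalizer ((op p H : Subgroup X) : Set X) := by
  haveI : (Cfsg.pCore p H).Characteristic := inferInstance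
  exact Cores.normalizer_le_normalizer_map _

theorem le_normalizer_fstar {H : Subgroup X} :
    normalizer (H : Set X) ≤ normalizer ((fstar H : Subgroup X) : Set X) :=
  Cores.normalizer_le_normalizer_map _

theorem le_normalizer_rf {H : Subgroup X} :
    normalizer (H : Set X) ≤ normalizer ((rf p H : Subgroup X) : Set X) := by
  intro g hg
  have hF := le_normalizer_fstar hg
  have hle : ∀ x : X, x ∈ normalizer ((fstar H : Subgroup X) : Set X) →
      ∀ y ∈ rf p H, x * y * x⁻¹ ∈ rf p H := by
    intro x hx y hy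
    rw [rf_eq_closure] at hy
    induction hy using closure_induction with
    | mem z hz =>
      refine mem_rf p ((Subgroup.mem_normalizer_iff.1 hx z).1 hz.1) ?_
      have : orderOf (x * z * x⁻¹) = orderOf z := (MulAut.conj x).orderOf_eq z
      rw [this]
      exact hz.2
    | one => simp
    | mul a b _ _ ha hb => rw [← conj_mul]; exact mul_mem ha hb
    | inv a _ ha => rw [← conj_inv]; exact inv_mem ha
  exact Coprime.mem_normalizer_of_forall (hle g hF)

theorem self_le_normalizer_rf (H : Subgroup X) : H ≤ normalizer ((rf p H : Subgroup X) : Set X) :=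
  le_normalizer.trans (le_normalizer_rf p)

theorem self_le_normalizer_op (H : Subgroup X) : H ≤ normalizer ((op p H : Subgroup X) : Set X) :=
  le_normalizer.trans (le_normalizer_op p)

variable [hp : Fact p.Prime]

theorem isPGroup_op (H : Subgroup X) : IsPGroup p (op p H) :=
  (Cores.isPGroup_pCore p H).map _

theorem le_op {H U : Subgroup X} (hU : IsPGroup p U) (hUH : U ≤ H)
    (hn : H ≤ normalizer (U : Set X)) : U ≤ op p H := by
  haveI : (U.subgroupOf H).Normal := (normal_subgroupOf_iff_le_normalizer hUH).2 hn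
  have h := Cores.le_pCore (p := p) (N := U.subgroupOf H) inferInstance hU.comap_subtype
  intro x hx
  exact ⟨⟨x, hUH hx⟩, h (mem_subgroupOf.2 hx), rfl⟩

/-- A `p'`-element of `F*` centralises `O_p`. -/
theorem commute_of_mem_genFitting {M : Type u} [Group M] [Finite M] {g v : M}
    (hg : g ∈ Cfsg.generalizedFittingSubgroup M) (hc : (orderOf g).Coprime p)
    (hv : v ∈ Cfsg.pCore p M) : Commute g v := by
  set O := Cfsg.pCore p M with hO
  set C := centralizer (O : Set M) with hC
  haveI : C.Normal := inferInstance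
  have hle : Cfsg.generalizedFittingSubgroup M ≤ O ⊔ C := by
    refine sup_le ((Components.layer_le_centralizer_fitting.trans
      (centralizer_le (SetLike.coe_subset_coe.2 (Cores.pCore_le_fittingSubgroup p)))).trans
      le_sup_right) ?_
    rw [Cores.fittingSubgroup_eq_iSup_pCore]
    refine iSup_le fun q => ?_
    by_cases h : (q : ℕ) = p
    · rw [h]; exact le_sup_left
    · haveI : Fact (q : ℕ).Prime := ⟨q.2⟩
      refine le_trans (fun x hx => ?_) le_sup_right
      exact mem_centralizer_iff.2 fun y hy => (Cores.pCore_commute h hx hy).symm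
  obtain ⟨u, hu, c, hcC, rfl⟩ := mem_sup_of_normal_right.1 (hle hg)
  set f := QuotientGroup.mk' C
  have hfc : f c = 1 := (QuotientGroup.eq_one_iff c).2 hcC
  have h1 : f (u * c) = f u := by rw [map_mul, hfc, mul_one]
  obtain ⟨k, hk⟩ := Cores.isPGroup_pCore p M ⟨u, hu⟩
  have hk' : u ^ p ^ k = 1 := congrArg Subtype.val hk
  have h2 : orderOf (f (u * c)) ∣ p ^ k := by
    rw [h1]
    exact (orderOf_map_dvd f u).trans (orderOf_dvd_of_pow_eq_one hk')
  have h3 : orderOf (f (u * c)) = 1 :=
    Nat.eq_one_of_dvd_coprimes (hc.pow_right k) (orderOf_map_dvd f _) h2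
  have h4 : u * c ∈ C := (QuotientGroup.eq_one_iff _).1 (orderOf_eq_one_iff.1 h3)
  exact (mem_centralizer_iff.1 h4 v hv).symm

theorem rf_le_centralizer_op (H : Subgroup X) :
    rf p H ≤ centralizer ((op p H : Subgroup X) : Set X) := by
  rw [rf_eq_closure, closure_le]
  rintro _ ⟨⟨g, hg, rfl⟩, hc⟩
  refine mem_centralizer_iff.2 ?_
  rintro _ ⟨v, hv, rfl⟩
  rw [Subgroup.coe_subtype, Subgroup.orderOf_coe] at hc
  exact congrArg Subtype.val (commute_of_mem_genFitting p hg hc hv).eq.symm

/-- A perfect group is generated by its `p'`-elements. -/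
theorem pResidual_eq_top_of_perfect {M : Type u} [Group M] [Finite M] (h : Group.IsPerfect M) :
    Cfsg.pResidual p M = ⊤ := by
  by_contra hne
  haveI : Nontrivial (M ⧸ Cfsg.pResidual p M) := QuotientGroup.nontrivial_iff.2 hne
  have hQ := (Transfer.isPGroup_quotient_pResidual (G := M) (p := p)).isNilpotent
  haveI := h
  haveI : Group.IsPerfect (M ⧸ Cfsg.pResidual p M) :=
    Group.IsPerfect.ofSurjective (f := QuotientGroup.mk' _) (QuotientGroup.mk'_surjective _)
  haveI := hQ
  exact Group.IsPerfect.not_isNilpotent (M ⧸ Cfsg.pResidual p M) hQ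

theorem fstar_le (H : Subgroup X) : fstar H ≤ op p H ⊔ rf p H := by
  rw [fstar, Cfsg.generalizedFittingSubgroup, Subgroup.map_sup]
  refine sup_le ?_ ?_
  · refine map_le_iff_le_comap.2 (Components.layer_le fun L hL => map_le_iff_le_comap.1 ?_)
    refine le_trans ?_ le_sup_right
    rintro _ ⟨x, hx, rfl⟩
    have hx' : x ∈ (Cfsg.pResidual p L).map L.subtype :=
      ⟨⟨x, hx⟩, by rw [pResidual_eq_top_of_perfect p hL.2.1]; trivial, rfl⟩
    rw [Transfer.map_pResidual_subtype] at hx'
    have hmap := mem_map_of_mem H.subtype hx'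
    rw [MonoidHom.map_closure] at hmap
    refine (closure_le _).2 ?_ hmap
    rintro _ ⟨y, ⟨hy, hc⟩, rfl⟩
    refine mem_rf p ⟨y, ?_, rfl⟩ ?_
    · exact Components.layer_le_genFitting (Components.IsComponent.le_layer hL hy)
    · rw [Subgroup.coe_subtype, Subgroup.orderOf_coe]; exact hc
  · rw [Cores.fittingSubgroup_eq_iSup_pCore, Subgroup.map_iSup]
    refine iSup_le fun q => ?_
    by_cases h : (q : ℕ) = p
    · rw [h]; exact le_sup_left
    · refine le_trans ?_ le_sup_right
      rintro _ ⟨y, hy, rfl⟩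
      haveI : Fact (q : ℕ).Prime := ⟨q.2⟩
      refine mem_rf p ⟨y, ?_, rfl⟩ ?_
      · exact Components.fitting_le_genFitting (Cores.pCore_le_fittingSubgroup _ hy)
      · obtain ⟨k, hk⟩ := IsPGroup.iff_orderOf.1 (Cores.isPGroup_pCore (q : ℕ) H) ⟨y, hy⟩
        rw [Subgroup.coe_subtype, Subgroup.orderOf_coe, ← Subgroup.orderOf_mk y hy, hk]
        exact Nat.Coprime.pow_left k ((Nat.coprime_primes q.2 hp.out).2 h)

theorem centralizer_fstar_inf_le (H : Subgroup X) :
    H ⊓ centralizer ((fstar H : Subgroup X) : Set X) ≤ fstar H := by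
  rintro x ⟨hxH, hxc⟩
  refine ⟨⟨x, hxH⟩, Components.centralizer_genFitting_le ?_, rfl⟩
  exact mem_centralizer_iff.2 fun y hy =>
    Subtype.ext (mem_centralizer_iff.1 hxc _ ⟨y, hy, rfl⟩)

omit hp in
theorem fstar_mono {D H : Subgroup X} (hDH : D ≤ H) (hn : H ≤ normalizer (D : Set X)) :
    fstar D ≤ fstar H := by
  haveI : (D.subgroupOf H).Normal := (normal_subgroupOf_iff_le_normalizer hDH).2 hn
  let e := subgroupOfEquivOfLe hDH
  have h1 := Components.genFitting_map_subtype_le (S := D.subgroupOf H)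
    (Subgroup.Normal.isSubnormal inferInstance)
  rintro _ ⟨x, hx, rfl⟩
  have hx' : e.symm x ∈ Cfsg.generalizedFittingSubgroup (D.subgroupOf H) := by
    rw [← Components.genFitting_map_equiv e.symm]
    exact mem_map_of_mem _ hx
  exact ⟨_, h1 (mem_map_of_mem _ hx'), rfl⟩

theorem rf_mono {D H : Subgroup X} (hDH : D ≤ H) (hn : H ≤ normalizer (D : Set X)) :
    rf p D ≤ rf p H :=
  le_rf_of_closure p ((rf_le_fstar p D).trans (fstar_mono hDH hn)) (rf_le_closure_self p D)

omit hp in
/-- A normal subgroup of `H` inside `F*(H)` is its own generalized Fitting subgroup. -/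
theorem fstar_eq_self {Y H : Subgroup X} (hYF : Y ≤ fstar H) (hn : H ≤ normalizer (Y : Set X)) :
    fstar Y = Y := by
  have hYH : Y ≤ H := hYF.trans (fstar_le_self H)
  haveI : (Y.subgroupOf H).Normal := (normal_subgroupOf_iff_le_normalizer hYH).2 hn
  have hle : Y.subgroupOf H ≤ Cfsg.generalizedFittingSubgroup H := by
    intro x hx
    obtain ⟨y, hy, e⟩ := hYF (mem_subgroupOf.1 hx)
    rwa [← Subtype.ext (a1 := y) (a2 := x) e]
  have hdec := Components.subnormal_le_genFitting_decomp (S := Y.subgroupOf H)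
    (Subgroup.Normal.isSubnormal inferInstance) hle
  let e := subgroupOfEquivOfLe hYH
  have htop : Cfsg.generalizedFittingSubgroup Y = ⊤ := by
    rw [← Components.genFitting_map_equiv e,
      show Cfsg.generalizedFittingSubgroup (Y.subgroupOf H) = ⊤ from (sup_comm _ _).trans hdec,
      map_top_of_surjective e.toMonoidHom e.surjective]
  rw [fstar, htop, ← MonoidHom.range_eq_map, Subgroup.range_subtype]

end Cfsg.Agent.CentRes
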