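import Cfsg.Agent.Lib.CentResidual.Main

/-!
Conversion between the forms of "the intersection of the invariant Sylow subgroups", and the
statement of S1931 from the functor theorem.

* `sInf_invariant_eq_iInf`
* `flavellFunctor_of_iInf`
* `centralizer_residual_layers` : the text of S1931, given the functor theorem
-/

set_option autoImplicit false
set_option linter.unusedSectionVars false
set_option linter.style.haveILetI false

namespace Cfsg.Agent.CentRes

open Subgroup

universe u

variable {X : Type u} [Group X] [Finite X]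

theorem sInf_invariant_eq_iInf (p : ℕ) [Fact p.Prime] (G R : Subgroup X) :
    sInf {T : Subgroup X | T ≤ G ∧ IsPGroup p T ∧
      Nat.card T = p ^ (Nat.card G).factorization p ∧ R ≤ normalizer (T : Set X)} =
    ⨅ S : {S : Sylow p ↥G // ∀ a ∈ R, ((S : Subgroup ↥G).map G.subtype).map
        (MulAut.conj a).toMonoidHom = (S : Subgroup ↥G).map G.subtype},
      ((S : Sylow p ↥G) : Subgroup ↥G).map G.subtype := by
  refine le_antisymm (le_iInf fun S => sInf_le ⟨map_subtype_le _, S.1.2.map _, ?_, fun a ha => ?_⟩)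
    (le_sInf ?_)
  · rw [Cores.card_map_subtype, Sylow.card_eq_multiplicity]
  · refine Coprime.mem_normalizer_of_forall fun x hx => ?_
    rw [← S.2 a ha]
    exact ⟨x, hx, rfl⟩
  · rintro T ⟨hTG, -, hTc, hTR⟩
    obtain ⟨S, hS⟩ := Coprime.exists_sylow_map_eq hTG hTc
    subst hS
    exact iInf_le_of_le ⟨S, fun a ha =>
      eq_of_le_of_card_ge (by
        rintro _ ⟨x, hx, rfl⟩
        exact (mem_normalizer_iff.1 (hTR ha) x).1 hx)
        (le_of_eq (Nat.card_congr ((((S : Subgroup G).map G.subtype)).equivMapOfInjective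
          (MulAut.conj a).toMonoidHom (MulAut.conj a).injective).toEquiv))⟩ le_rfl

/-- The functor theorem in the shape of S1930. -/
theorem flavellFunctor_of_iInf {p : ℕ} [Fact p.Prime]
    (h : ∀ (X : Type u) [Group X] [Finite X] (G R : Subgroup X) (r : ℕ) [Fact r.Prime],
      IsPGroup r ↥R → (Nat.card ↥G).Coprime r → R ≤ normalizer (G : Set X) → G ≠ ⊥ →
      Cfsg.generalizedFittingSubgroup ↥G = Cfsg.pCore p ↥G → ∀ P : Subgroup X,
      P = ⨅ S : {S : Sylow p ↥G // ∀ a ∈ R, ((S : Subgroup ↥G).map G.subtype).map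
        (MulAut.conj a).toMonoidHom = (S : Subgroup ↥G).map G.subtype},
      ((S : Sylow p ↥G) : Subgroup ↥G).map G.subtype →
      G ≤ normalizer (((Cfsg.kInfLower ↥P).map P.subtype : Subgroup X) : Set X)) :
    FlavellFunctor.{u} p := fun X _ _ G R r _ h1 h2 h3 h4 h5 =>
  h X G R r h1 h2 h3 h4 h5 _ (sInf_invariant_eq_iInf p G R)

/-- The text of S1931, given the functor theorem. -/
theorem centralizer_residual_layers (G R : Subgroup X) (r : ℕ) [Fact r.Prime] (hR : IsPGroup r ↥R) (hcop : (Nat.card ↥G).Coprime r) (hnorm : R ≤ Subgroup.normalizer (G : Set X)) (hab : IsMulCommutative ↥R) (hnc : ¬ IsCyclic ↥R) (p : ℕ) [Fact p.Prime] (hp : 3 < p) (hFF : FlavellFunctor.{u} p) (hloc : ∀ a ∈ R, a ≠ 1 → R ≤ Subgroup.centralizer ((((Cfsg.pResidual p ↥(Cfsg.generalizedFittingSubgroup ↥(G ⊓ Subgroup.centralizer ({a} : Set X)))).map (Cfsg.generalizedFittingSubgroup ↥(G ⊓ Subgroup.centralizer ({a} : Set X))).subtype).map (G ⊓ Subgroup.centralizer ({a} : Set X)).subtype : Subgroup X) : Set X)) : R ≤ Subgroup.centralizer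 ((((Cfsg.pResidual p ↥(Cfsg.generalizedFittingSubgroup ↥G)).map (Cfsg.generalizedFittingSubgroup ↥G).subtype).map G.subtype : Subgroup X) : Set X) :=
  le_centralizer_rf_of_noncyclic hFF hp hR hcop hnorm hab hnc hloc

end Cfsg.Agent.CentRes
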