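import Cfsg.Agent.Lib.CentResidual.Setup
import Cfsg.Agent.Lib.Coprime.PQ
import Cfsg.Agent.Lib.Signalizer.SSFT.Frob

/-!
The overgroups `W` of `C_G(E)` with `P ∩ C(O_p(W)) ≤ W`, and the central case: if `P ∩ Y ≤ Z(Y)`
for a subgroup `Y` normal in `W` and generated by its `p'`-elements, then `E` centralises `Y`.

* `Over`
* `Setup.le_centralizer_of_inf_le`
-/

set_option autoImplicit false
set_option linter.unusedSectionVars false
set_option linter.style.haveILetI false

open scoped Pointwise commutatorElement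

namespace Cfsg.Agent.CentRes

open Subgroup

universe u

variable {X : Type u} [Group X] [Finite X] {p r : ℕ} [Fact p.Prime] {G E : Subgroup X}

/-- The overgroups of `C_G(E)` in which the largest invariant `p`-subgroup is self-centralising. -/
structure Over (p : ℕ) (G E W : Subgroup X) : Prop where
  fix_le : fix G E ≤ W
  le : W ≤ G
  norm : E ≤ normalizer (W : Set X)
  cen : big p G E ⊓ centralizer ((op p W : Subgroup X) : Set X) ≤ W

/-- `T ⊔ K = D` when `T` is a Sylow `p` and `K` has all Sylow subgroups for `q ≠ p`. -/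
theorem le_of_card_dvd {D L : Subgroup X} (hLD : L ≤ D)
    (h : ∀ q : ℕ, q.Prime → q ^ (Nat.card D).factorization q ∣ Nat.card L) : D ≤ L := by
  refine (eq_of_le_of_card_ge hLD (Nat.le_of_dvd Nat.card_pos ?_)).ge
  rw [Nat.dvd_iff_prime_pow_dvd_dvd]
  intro q n hq hn
  exact (pow_dvd_pow q ((hq.pow_dvd_iff_le_factorization Nat.card_pos.ne').1 hn)).trans (h q hq)

/-- A normal subgroup with all Sylow subgroups for `q ≠ p` contains all `p'`-elements. -/
theorem mem_of_card_dvd {D L : Subgroup X} (hLD : L ≤ D) (hn : D ≤ normalizer (L : Set X))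
    (h : ∀ q : ℕ, q.Prime → q ≠ p → q ^ (Nat.card D).factorization q ∣ Nat.card L)
    {y : X} (hy : y ∈ D) (hc : (orderOf y).Coprime p) : y ∈ L := by
  haveI : (L.subgroupOf D).Normal := (normal_subgroupOf_iff_le_normalizer hLD).2 hn
  have h1 : (orderOf y).Coprime (L.subgroupOf D).index := by
    refine Nat.coprime_of_dvd fun q hq hqy hqi => ?_
    have hqp : q ≠ p := by
      rintro rfl
      exact hq.one_lt.ne' (Nat.eq_one_of_dvd_coprimes hc hqy dvd_rfl)
    have h2 : q * q ^ (Nat.card D).factorization q ∣ Nat.card D := by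
      refine (mul_dvd_mul hqi (h q hq hqp)).trans (dvd_of_eq ?_)
      rw [← (Nat.card_congr (subgroupOfEquivOfLe hLD).toEquiv)]
      exact index_mul_card _
    rw [← pow_succ'] at h2
    exact absurd ((hq.pow_dvd_iff_le_factorization Nat.card_pos.ne').1 h2) (by omega)
  have h3 : (⟨y, hy⟩ : D) ^ (L.subgroupOf D).index ∈ L.subgroupOf D := pow_index_mem _ _
  have h1' : (L.subgroupOf D).index.Coprime (orderOf y) := h1.symm
  obtain ⟨m, hm⟩ := exists_pow_eq_self_of_coprime h1'
  rw [← hm]
  exact pow_mem (mem_subgroupOf.1 h3) m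

namespace Setup

variable (S : Setup G E p r)
include S

theorem mem_centralizer_of_pair {a b : X} (ha : a ∈ E) (ha1 : a ≠ 1) (hb : b ∈ E)
    (hba : b ∉ zpowers a) {x : X} (hxa : x ∈ centralizer ({a} : Set X))
    (hxb : x ∈ centralizer ({b} : Set X)) : x ∈ centralizer (E : Set X) := by
  set K := E ⊓ centralizer ({x} : Set X) with hK
  have haK : a ∈ K := ⟨ha, commute_singleton.2 (commute_singleton.1 hxa).symm⟩
  have hbK : b ∈ K := ⟨hb, commute_singleton.2 (commute_singleton.1 hxb).symm⟩
  have hra : orderOf a = r := haveI := Fact.mk S.prime; orderOf_eq_prime (S.exp a ha) ha1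
  have h1 : r < Nat.card K := by
    rw [← hra, ← Nat.card_zpowers]
    have hlt : zpowers a < K := lt_of_le_of_ne (zpowers_le.2 haK) fun h => hba (h ▸ hbK)
    exact (card_le_of_le hlt.le).lt_of_ne fun he => hlt.ne (eq_of_le_of_card_ge hlt.le he.ge)
  have h2 : Nat.card K ∣ r ^ 2 := by rw [sq, ← S.card_E]; exact card_dvd_of_le inf_le_left
  obtain ⟨k, hk, hk'⟩ := (Nat.dvd_prime_pow S.prime).1 h2
  have hk2 : k = 2 := by
    rcases Nat.lt_or_ge k 2 with h | h
    · have : r ^ k ≤ r ^ 1 := Nat.pow_le_pow_right S.prime.pos (by omega)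
      rw [pow_one] at this
      omega
    · omega
  have hKE : K = E := eq_of_le_of_card_ge inf_le_left (by rw [hk', hk2, sq, S.card_E])
  refine mem_centralizer_iff.2 fun e he => ?_
  exact ((commute_singleton.1 (hKE.ge he).2)).symm

theorem exists_not_mem_zpowers {a : X} (ha : a ∈ E) : ∃ b ∈ E, b ∉ zpowers a := by
  by_contra! h
  exact S.not_isCyclic (isCyclic_of_injective (inclusion h) (inclusion_injective h))

theorem op_le_big {W : Subgroup X} (hW : Over p G E W) : op p W ≤ big p G E :=
  S.le_big ((op_le p W).trans hW.le) (isPGroup_op p W) (hW.norm.trans (le_normalizer_op p))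
    (hW.fix_le.trans (self_le_normalizer_op p W))

theorem inf_centralizer_le {W : Subgroup X} (hW : Over p G E W) :
    big p G E ⊓ centralizer ((big p G E ⊓ W : Subgroup X) : Set X) ≤ big p G E ⊓ W :=
  fun _ hx => ⟨hx.1, hW.cen ⟨hx.1, centralizer_le
    (SetLike.coe_subset_coe.2 (le_inf (S.op_le_big hW) (op_le p W))) hx.2⟩⟩

/-- The central case. -/
theorem le_centralizer_of_inf_le {W Y : Subgroup X} (hW : Over p G E W) (hYW : Y ≤ W)
    (hWY : W ≤ normalizer (Y : Set X)) (hEY : E ≤ normalizer (Y : Set X))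
    (hgen : Y ≤ closure {g : X | g ∈ Y ∧ (orderOf g).Coprime p})
    (hQ : big p G E ⊓ W ⊓ Y ≤ centralizer (Y : Set X)) : E ≤ centralizer (Y : Set X) := by
  have hYG : Y ≤ G := hYW.trans hW.le
  -- invariant `p`-subgroups of `Y` are central
  have hcenU : ∀ U : Subgroup X, U ≤ Y → IsPGroup p U → E ≤ normalizer (U : Set X) →
      fix G E ≤ normalizer (U : Set X) → U ≤ centralizer (Y : Set X) :=
    fun U h1 h2 h3 h4 => (le_inf (le_inf (S.le_big (h1.trans hYG) h2 h3 h4) (h1.trans hYW)) h1).trans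
      hQ
  -- fixed `p'`-elements centralise `P`
  have hfixed : ∀ i ∈ Y, i ∈ centralizer (E : Set X) → (orderOf i).Coprime p →
      i ∈ centralizer ((big p G E : Subgroup X) : Set X) := by
    intro i hiY hiE hic
    have hiP : i ∈ normalizer ((big p G E : Subgroup X) : Set X) :=
      S.fix_le_normalizer_big ⟨hYG hiY, hiE⟩
    have hQi : ∀ q ∈ big p G E ⊓ W, q * i = i * q := by
      intro q hq
      have hzY : q * i * q⁻¹ * i⁻¹ ∈ Y :=
        Y.mul_mem ((mem_normalizer_iff.1 (hWY hq.2) i).1 hiY) (Y.inv_mem hiY)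
      have hzP : q * i * q⁻¹ * i⁻¹ ∈ big p G E := by
        rw [show q * i * q⁻¹ * i⁻¹ = q * (i * q⁻¹ * i⁻¹) by group]
        exact mul_mem hq.1 ((mem_normalizer_iff.1 hiP _).1 (inv_mem hq.1))
      obtain ⟨k, hk⟩ := (S.isPGroup_big (p := p)) ⟨_, hzP⟩
      exact commute_of_conj hic ⟨k, congrArg Subtype.val hk⟩
        ((mem_centralizer_iff.1 (hQ ⟨⟨hzP, hYW hzY⟩, hzY⟩) i hiY).symm)
    refine (Coprime.le_centralizer_of_centralizer_le (H := big p G E) (A := zpowers i)
      (S.isPGroup_big (p := p)).isNilpotent (zpowers_le.2 hiP) ?_ ?_) (mem_zpowers i)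
    · obtain ⟨n, hn⟩ := IsPGroup.iff_card.1 (S.isPGroup_big (p := p))
      rw [hn, Nat.card_zpowers]
      exact hic.pow_right n
    · have hle : big p G E ⊓ W ≤ big p G E ⊓ centralizer ((zpowers i : Subgroup X) : Set X) :=
        fun q hq => ⟨hq.1, mem_centralizer_iff.2 fun j hj => by
          obtain ⟨n, rfl⟩ := hj
          exact ((show Commute i q from (hQi q hq).symm).zpow_left n).eq⟩
      exact ((inf_le_inf_left _ (centralizer_le (SetLike.coe_subset_coe.2 hle))).trans
        (S.inf_centralizer_le hW)).trans hle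
  -- the elements moved by `E` only into the central `p`-part
  let Zp : Subgroup X := op p Y ⊓ centralizer (Y : Set X)
  let M : Subgroup X :=
    { carrier := {y | y ∈ Y ∧ ∀ e ∈ E, e * y * e⁻¹ * y⁻¹ ∈ Zp}
      one_mem' := ⟨Y.one_mem, fun e _ => by simp⟩
      mul_mem' := by
        rintro x y ⟨hx, hx'⟩ ⟨hy, hy'⟩
        refine ⟨Y.mul_mem hx hy, fun e he => ?_⟩
        have hc := mem_centralizer_iff.1 (hy' e he).2 x hx
        have : e * (x * y) * e⁻¹ * (x * y)⁻¹ =
            (e * x * e⁻¹ * x⁻¹) * (e * y * e⁻¹ * y⁻¹) := by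
          calc e * (x * y) * e⁻¹ * (x * y)⁻¹
              = e * x * e⁻¹ * ((e * y * e⁻¹ * y⁻¹) * x⁻¹) := by group
            _ = e * x * e⁻¹ * (x⁻¹ * (x * (e * y * e⁻¹ * y⁻¹)) * x⁻¹) := by group
            _ = e * x * e⁻¹ * (x⁻¹ * ((e * y * e⁻¹ * y⁻¹) * x) * x⁻¹) := by rw [hc]
            _ = _ := by group
        rw [this]
        exact Zp.mul_mem (hx' e he) (hy' e he)
      inv_mem' := by
        rintro x ⟨hx, hx'⟩
        refine ⟨Y.inv_mem hx, fun e he => ?_⟩
        have hc := mem_centralizer_iff.1 (hx' e he).2 x hx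
        have hc' : Commute x (e * x * e⁻¹ * x⁻¹) := hc
        have : e * x⁻¹ * e⁻¹ * x⁻¹⁻¹ = (e * x * e⁻¹ * x⁻¹)⁻¹ := by
          calc e * x⁻¹ * e⁻¹ * x⁻¹⁻¹ = x⁻¹ * (e * x * e⁻¹ * x⁻¹)⁻¹ * x := by group
            _ = (e * x * e⁻¹ * x⁻¹)⁻¹ * x⁻¹ * x := by rw [hc'.inv_inv.eq]
            _ = _ := by group
        rw [this]
        exact Zp.inv_mem (hx' e he) }
  have hYM : Y ≤ M := by
    refine S.gen hYG hEY fun a ha ha1 => ?_
    set D := Y ⊓ centralizer ({a} : Set X) with hD
    set H := cent G a with hH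
    set V := op p H with hV
    have hDH : D ≤ H := fun y hy => ⟨hYG hy.1, hy.2⟩
    have hHG : H ≤ G := inf_le_left
    have hED : E ≤ normalizer (D : Set X) :=
      S.E_le_normalizer_inf hEY (S.E_le_normalizer_centralizer_singleton ha)
    have hEH : E ≤ normalizer (H : Set X) := S.E_le_normalizer_cent ha
    have hEV : E ≤ normalizer (V : Set X) := hEH.trans (le_normalizer_op p)
    have hCH : fix G E ≤ H := S.fix_le_cent ha
    have hHV : H ≤ normalizer (V : Set X) := self_le_normalizer_op p H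
    have hVp : IsPGroup p V := isPGroup_op p H
    have hVP : V ≤ big p G E := S.le_big ((op_le p H).trans hHG) hVp hEV (hCH.trans hHV)
    have hCD : fix G E ≤ normalizer (D : Set X) := fun c hc => by
      refine Coprime.mem_normalizer_of_forall fun y hy =>
        ⟨(mem_normalizer_iff.1 (hWY (hW.fix_le hc)) y).1 hy.1, ?_⟩
      exact (centralizer ({a} : Set X)).mul_mem
        ((centralizer ({a} : Set X)).mul_mem (hCH hc).2 hy.2)
        ((centralizer ({a} : Set X)).inv_mem (hCH hc).2)
    have hVD : V ⊓ D ≤ centralizer (Y : Set X) := hcenU _ (inf_le_right.trans inf_le_left)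
      (hVp.to_le inf_le_left) (S.E_le_normalizer_inf hEV hED) fun c hc => by
        refine Coprime.mem_normalizer_of_forall fun y hy =>
          ⟨(mem_normalizer_iff.1 (hHV (hCH hc)) y).1 hy.1, (mem_normalizer_iff.1 (hCD hc) y).1 hy.2⟩
    -- fixed elements of `V` commute with `p'`-elements of `D`
    have hVfix : ∀ v ∈ V, v ∈ centralizer (E : Set X) → ∀ y ∈ D, (orderOf y).Coprime p →
        v * y = y * v := by
      intro v hv hvE y hy hyc
      have hvC : v ∈ fix G E := ⟨hHG (op_le p H hv), hvE⟩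
      have hzD : v * y * v⁻¹ * y⁻¹ ∈ D :=
        D.mul_mem ((mem_normalizer_iff.1 (hCD hvC) y).1 hy) (D.inv_mem hy)
      have hzV : v * y * v⁻¹ * y⁻¹ ∈ V := by
        rw [show v * y * v⁻¹ * y⁻¹ = v * (y * v⁻¹ * y⁻¹) by group]
        exact mul_mem hv ((mem_normalizer_iff.1 (hHV (hDH hy)) _).1 (inv_mem hv))
      obtain ⟨k, hk⟩ := hVp ⟨_, hzV⟩
      exact commute_of_conj hyc ⟨k, congrArg Subtype.val hk⟩
        ((mem_centralizer_iff.1 (hVD ⟨hzV, hzD⟩) y hy.1).symm)
    -- `p'`-elements of `D` centralise `V`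
    have hDV : ∀ y ∈ D, (orderOf y).Coprime p → y ∈ centralizer (V : Set X) := by
      intro y hy hyc
      refine (mem_of_card_dvd (p := p) (L := D ⊓ centralizer (V : Set X)) inf_le_left ?_ ?_ hy hyc).2
      · refine fun x hx => Coprime.mem_normalizer_of_forall fun z hz =>
          ⟨D.mul_mem (D.mul_mem hx hz.1) (D.inv_mem hx), mem_centralizer_iff.2 fun v hv => ?_⟩
        have hv' := (mem_normalizer_iff''.1 (hHV (hDH hx)) v).1 hv
        calc v * (x * z * x⁻¹) = x * ((x⁻¹ * v * x) * z) * x⁻¹ := by group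
          _ = x * (z * (x⁻¹ * v * x)) * x⁻¹ := by rw [mem_centralizer_iff.1 hz.2 _ hv']
          _ = x * z * x⁻¹ * v := by group
      intro q hq hqp
      haveI := Fact.mk hq
      haveI := Fact.mk S.prime
      obtain ⟨T, -, hTD, hET, hTc⟩ := Coprime.exists_invariant_card hED
        (S.coprime_sub (hDH.trans hHG)) (Or.inl S.solvable) q (U := ⊥) bot_le IsPGroup.of_bot
        (by rw [normalizer_eq_top_iff.2 (by infer_instance : (⊥ : Subgroup X).Normal)]
            exact le_top)
      rw [← hTc]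
      refine card_dvd_of_le (le_inf hTD ?_)
      obtain ⟨b, hb, hba⟩ := S.exists_not_mem_zpowers ha
      have hTq : IsPGroup q T := Coprime.isPGroup_of_card hTc
      have hnd : ∀ {K : Subgroup X}, K ≤ G → ¬ r ∣ Nat.card K := fun hK h => by
        have := Nat.eq_one_of_dvd_coprimes (S.coprime_sub hK)
          (by rw [S.card_E]; exact dvd_mul_right r r) h
        exact S.prime.one_lt.ne' this
      have hTp : ∀ t ∈ T, (orderOf t).Coprime p := fun t ht => by
        obtain ⟨k, hk⟩ := hTq ⟨t, ht⟩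
        exact (((Nat.coprime_primes hq Fact.out).2 hqp).pow_left k).coprime_dvd_left
          (orderOf_dvd_of_pow_eq_one (congrArg Subtype.val hk))
      refine Signalizer.le_centralizer_of_fpf (p := r) (S.exp b hb)
        (Coprime.isSolvable_of_isPGroup hTq) (Coprime.isSolvable_of_isPGroup hVp)
        (hnd ((hTD.trans hDH).trans hHG)) (hnd ((op_le p H).trans hHG)) ?_
        ((hTD.trans hDH).trans hHV) (hET hb) (hEV hb) ?_ ?_
      · obtain ⟨n, hn⟩ := IsPGroup.iff_card.1 hTq
        obtain ⟨m, hm⟩ := IsPGroup.iff_card.1 hVp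
        rw [hn, hm]
        exact ((Nat.coprime_primes hq Fact.out).2 hqp).pow n m
      · rintro t ⟨htT, htb⟩
        exact centralizer_le (SetLike.coe_subset_coe.2 hVP) (hfixed t (hTD htT).1
          (S.mem_centralizer_of_pair ha ha1 hb hba (hTD htT).2 htb) (hTp t htT))
      · rintro v ⟨hvV, hvb⟩
        have hvE := S.mem_centralizer_of_pair ha ha1 hb hba (op_le p H hvV).2 hvb
        exact mem_centralizer_iff.2 fun t ht => (hVfix v hvV hvE t (hTD ht) (hTp t ht)).symm
    -- and hence are fixed by `E`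
    have hDE : ∀ y ∈ D, (orderOf y).Coprime p → y ∈ centralizer (E : Set X) := by
      intro y hy hyc
      refine mem_centralizer_iff.2 fun e he => ?_
      have hyN : y ∈ H ⊓ centralizer (V : Set X) := ⟨hDH hy, hDV y hy hyc⟩
      have h := S.commutator_centralizer_op_le hHG hEH (S.loc a ha ha1)
        (commutator_mem_commutator hyN he)
      have hzV : e * y * e⁻¹ * y⁻¹ ∈ V := by
        have := inv_mem h
        rwa [commutatorElement_inv, commutatorElement_def] at this
      have hzD : e * y * e⁻¹ * y⁻¹ ∈ D :=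
        D.mul_mem ((mem_normalizer_iff.1 (hED he) y).1 hy) (D.inv_mem hy)
      obtain ⟨k, hk⟩ := hVp ⟨_, hzV⟩
      exact commute_of_conj hyc ⟨k, congrArg Subtype.val hk⟩
        ((mem_centralizer_iff.1 (hVD ⟨hzV, hzD⟩) y hy.1).symm)
    -- `[D, E]` lies in every invariant Sylow `p`-subgroup of `D`
    obtain ⟨T, hT⟩ := S.exists_invSyl' (p := p) (hDH.trans hHG) hED
    set K := closure {g : X | g ∈ D ∧ (orderOf g).Coprime p} with hK
    have hKD : K ≤ D := (closure_le _).2 fun g hg => hg.1
    have hKE : K ≤ centralizer (E : Set X) := (closure_le _).2 fun g hg => hDE g hg.1 hg.2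
    have hDK : D ≤ normalizer (K : Set X) := fun x hx => by
      refine Coprime.mem_normalizer_of_forall fun z hz => ?_
      induction hz using closure_induction with
      | mem g hg =>
        refine subset_closure ⟨D.mul_mem (D.mul_mem hx hg.1) (D.inv_mem hx), ?_⟩
        have h : orderOf (x * g * x⁻¹) = orderOf g := (MulAut.conj x).orderOf_eq g
        rw [h]
        exact hg.2
      | one => simp
      | mul g₁ g₂ _ _ h1 h2 => rw [← conj_mul]; exact mul_mem h1 h2
      | inv g _ h1 => rw [← conj_inv]; exact inv_mem h1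
    have hTK : D ≤ T ⊔ K := by
      refine le_of_card_dvd (sup_le hT.1 hKD) fun q hq => ?_
      by_cases hqp : q = p
      · subst hqp
        rw [← hT.2.2.1]
        exact card_dvd_of_le le_sup_left
      · haveI := Fact.mk hq
        obtain ⟨U, -, hUD, -, hUc⟩ := Coprime.exists_invariant_card hED
          (S.coprime_sub (hDH.trans hHG)) (Or.inl S.solvable) q (U := ⊥) bot_le IsPGroup.of_bot
          (by rw [normalizer_eq_top_iff.2 (by infer_instance : (⊥ : Subgroup X).Normal)]
              exact le_top)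
        rw [← hUc]
        refine card_dvd_of_le (le_trans ?_ le_sup_right : U ≤ T ⊔ K)
        intro t ht
        refine subset_closure ⟨hUD ht, ?_⟩
        obtain ⟨k, hk⟩ := Coprime.isPGroup_of_card hUc ⟨t, ht⟩
        exact (((Nat.coprime_primes hq Fact.out).2 hqp).pow_left k).coprime_dvd_left
          (orderOf_dvd_of_pow_eq_one (congrArg Subtype.val hk))
    have hDET : ⁅D, E⁆ ≤ T := by
      rw [commutator_le]
      intro d hd e he
      have hd' : d ∈ K ⊔ T := by rw [sup_comm]; exact hTK hd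
      obtain ⟨k₀, hk₀, t, ht, rfl⟩ := (Coprime.mem_sup_iff (hT.1.trans hDK)).1 hd'
      rw [show k₀ * t = t * (t⁻¹ * k₀ * t) by group]
      set k := t⁻¹ * k₀ * t with hkdef
      have hk : k ∈ K := (mem_normalizer_iff''.1 (hDK (hT.1 ht)) k₀).1 hk₀
      have hke : ⁅k, e⁆ = 1 := commutatorElement_eq_one_iff_mul_comm.2
        (mem_centralizer_iff.1 (hKE hk) e he).symm
      rw [commutatorElement_mul_left_eq_conj_mul, hke, mul_one, mul_inv_cancel, one_mul]
      exact le_normalizer_iff_commutator_le_left.1 hT.2.2.2 (commutator_mem_commutator ht he)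
    have hNY : ⁅D, E⁆ ≤ Y := (hDET.trans hT.1).trans inf_le_left
    have hNp : IsPGroup p (⁅D, E⁆ : Subgroup X) := hT.2.1.to_le hDET
    have hNc : ⁅D, E⁆ ≤ centralizer (Y : Set X) := hcenU _ hNY hNp
      (Coprime.le_normalizer_commutator hED le_normalizer)
      (Coprime.le_normalizer_commutator hCD (inf_le_right.trans (centralizer_le_normalizer _)))
    have hNZ : ⁅D, E⁆ ≤ Zp :=
      le_inf (le_op p hNp hNY ((le_centralizer_iff.1 hNc).trans (centralizer_le_normalizer _))) hNc
    refine fun y hy => ⟨hy.1, fun e he => ?_⟩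
    have h := inv_mem (hNZ (commutator_mem_commutator hy he))
    rwa [commutatorElement_inv, commutatorElement_def] at h
  rw [le_centralizer_iff]
  refine hgen.trans ((closure_le _).2 fun y hy => mem_centralizer_iff.2 fun e he => ?_)
  have hz := (hYM hy.1).2 e he
  obtain ⟨k, hk⟩ := isPGroup_op p Y ⟨_, hz.1⟩
  exact commute_of_conj hy.2 ⟨k, congrArg Subtype.val hk⟩
    ((mem_centralizer_iff.1 hz.2 y hy.1).symm)

end Setup

end Cfsg.Agent.CentRes
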