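import Cfsg.Agent.Lib.CentResidual.Setup
import Cfsg.Agent.Lib.Components.CharTwo
import Cfsg.Agent.Lib.FunctorControl.Sections
import Cfsg.Agent.Lib.KInfinity.Functor

/-!
The functor theorem of coprime action (`F*(G) = O_p(G)`, `p > 3`: `G` normalises `K^∞` of the
intersection of the invariant Sylow `p`-subgroups), carried over a central `p'`-extension.

* `FlavellFunctor` : the property taken as input
* `kInf` : `K_∞(Q)` inside the ambient group
* `Setup.le_normalizer_kInf_of_quotient`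
* `Setup.le_normalizer_kInf` : if `E` centralises `O^p(F*(W))` then `W ≤ N(K_∞(P ∩ W))`
-/

set_option autoImplicit false
set_option linter.unusedSectionVars false
set_option linter.style.haveILetI false

open scoped Pointwise commutatorElement

namespace Cfsg.Agent.CentRes

open Subgroup

universe u

/-- `K_∞(Q)` as a subgroup of the ambient group. -/
def kInf {X : Type u} [Group X] : Subgroup X → Subgroup X := Cfsg.inducedFunctor Cfsg.kInfLower

/-- The functor theorem. -/
def FlavellFunctor (p : ℕ) : Prop :=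
  ∀ (X : Type u) [Group X] [Finite X] (G R : Subgroup X) (r : ℕ) [Fact r.Prime],
    IsPGroup r R → (Nat.card G).Coprime r → R ≤ normalizer (G : Set X) → G ≠ ⊥ →
    Cfsg.generalizedFittingSubgroup G = Cfsg.pCore p G →
    G ≤ normalizer ((kInf (sInf {T : Subgroup X | T ≤ G ∧ IsPGroup p T ∧
      Nat.card T = p ^ (Nat.card G).factorization p ∧ R ≤ normalizer (T : Set X)}) : Subgroup X) :
      Set X)

variable {X : Type u} [Group X] [Finite X] {p r : ℕ} [Fact p.Prime] {G E : Subgroup X}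

theorem kInf_le (Q : Subgroup X) : kInf Q ≤ Q := Subgroup.map_subtype_le _

theorem normalizer_le_normalizer_kInf {Q : Subgroup X} (hQ : IsPGroup p Q) :
    normalizer (Q : Set X) ≤ normalizer ((kInf Q : Subgroup X) : Set X) :=
  AlperinFamily.normalizer_le_normalizer_functor
    (FunctorControl.isConjugacyFunctor_induced (KInfinity.isCharPFunctor_kInfLower p)) hQ

theorem kInf_bot : kInf (⊥ : Subgroup X) = ⊥ := le_bot_iff.1 (kInf_le _)

theorem eq_of_p_elements {t z a : X} (htz : Commute t z) (h : a = t * z)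
    (ht : ∃ k, t ^ p ^ k = 1) (ha : ∃ k, a ^ p ^ k = 1) (hz : (orderOf z).Coprime p) : a = t := by
  obtain ⟨k, hk⟩ := ht
  obtain ⟨l, hl⟩ := ha
  have h1 : a ^ p ^ (k + l) = 1 := by rw [pow_add, mul_comm, pow_mul, hl, one_pow]
  have h2 : t ^ p ^ (k + l) = 1 := by rw [pow_add, pow_mul, hk, one_pow]
  rw [h, htz.mul_pow, h2, one_mul] at h1
  have h3 := Nat.eq_one_of_dvd_coprimes (hz.pow_right (k + l)) dvd_rfl
    (orderOf_dvd_of_pow_eq_one h1)
  rw [h, orderOf_eq_one_iff.1 h3, mul_one]

theorem exists_pow_eq_one {U : Subgroup X} (hU : IsPGroup p U) {x : X} (hx : x ∈ U) :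
    ∃ k, x ^ p ^ k = 1 :=
  let ⟨k, hk⟩ := hU ⟨x, hx⟩
  ⟨k, congrArg Subtype.val hk⟩

namespace Setup

variable (S : Setup G E p r)
include S

theorem isPGroup_E : IsPGroup r E := fun e => ⟨1, Subtype.ext (by simpa using S.exp e e.2)⟩

theorem coprime_card_r : (Nat.card G).Coprime r := by
  have h := S.cop
  rw [S.card_E] at h
  exact (h.coprime_dvd_left (dvd_mul_right r r)).symm

/-- The functor theorem over a central `p'`-subgroup. -/
theorem le_normalizer_kInf_of_quotient (hFF : FlavellFunctor.{u} p) {W Z Q : Subgroup X}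
    (hWG : W ≤ G) (hEW : E ≤ normalizer (W : Set X)) (hZW : Z ≤ W)
    (hWZ : W ≤ centralizer (Z : Set X)) (hEZ : E ≤ centralizer (Z : Set X))
    (hZp : ∀ z ∈ Z, (orderOf z).Coprime p)
    (hQW : Q ≤ W) (hQp : IsPGroup p Q) (hQ1 : ∀ T, InvSyl p E W T → Q ≤ T)
    (hQ2 : ∀ a : X, (∃ k, a ^ p ^ k = 1) → (∀ T, InvSyl p E W T → a ∈ T) → a ∈ Q)
    (hsc : W ⊓ centralizer ((op p W : Subgroup X) : Set X) ≤ op p W ⊔ Z) :
    W ≤ normalizer ((kInf Q : Subgroup X) : Set X) := by
  classical
  set M : Subgroup X := normalizer (Z : Set X) with hM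
  have hWM : W ≤ M := hWZ.trans (centralizer_le_normalizer _)
  have hEM : E ≤ M := hEZ.trans (centralizer_le_normalizer _)
  have hZM : Z ≤ M := le_normalizer
  haveI hZn : (Z.subgroupOf M).Normal := (normal_subgroupOf_iff_le_normalizer hZM).2 le_rfl
  let f : M →* M ⧸ Z.subgroupOf M := QuotientGroup.mk' _
  have hf : ∀ x : M, f x = 1 ↔ (x : X) ∈ Z := fun x => QuotientGroup.eq_one_iff x
  have hfeq : ∀ x y : M, f x = f y ↔ (x : X)⁻¹ * y ∈ Z := fun x y => by
    rw [eq_comm, ← inv_mul_eq_one, eq_comm, ← map_inv, ← map_mul, eq_comm, hf]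
    constructor <;> intro h
    · simpa using Z.inv_mem h
    · simpa using Z.inv_mem h
  have hpZ : ¬ p ∣ Nat.card Z := fun h => by
    obtain ⟨z, hz⟩ := exists_prime_orderOf_dvd_card' p h
    have := hZp z z.2
    rw [Subgroup.orderOf_coe, hz] at this
    exact (Fact.out : p.Prime).one_lt.ne' ((Nat.coprime_self p).1 this)
  set W' := (W.subgroupOf M).map f with hW'
  set E' := (E.subgroupOf M).map f with hE'
  have hmemW : ∀ {x : X} (hx : x ∈ W), f ⟨x, hWM hx⟩ ∈ W' := fun {x} hx => ⟨⟨x, hWM hx⟩, hx, rfl⟩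
  have hker : f.ker = Z.subgroupOf M := QuotientGroup.ker_mk' _
  have hkc : Nat.card f.ker = Nat.card Z := by rw [hker, Cores.card_subgroupOf hZM]
  have hcard : Nat.card W' * Nat.card Z = Nat.card W := by
    rw [← Cores.card_subgroupOf hWM, ← hkc]
    exact Cores.card_map_mul_ker f _ (by rw [hker]; exact fun x hx => hZW hx)
  have hfac : (Nat.card W').factorization p = (Nat.card W).factorization p := by
    rw [← hcard, Nat.factorization_mul Nat.card_pos.ne' Nat.card_pos.ne', Finsupp.add_apply,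
      Nat.factorization_eq_zero_of_not_dvd hpZ, add_zero]
  by_cases hne : W' = ⊥
  · have hQ : Q = ⊥ := (eq_bot_iff_forall Q).2 fun q hq => by
      have h : f ⟨q, hWM (hQW hq)⟩ = 1 := mem_bot.1 (hne ▸ hmemW (hQW hq))
      obtain ⟨k, hk⟩ := exists_pow_eq_one hQp hq
      exact orderOf_eq_one_iff.1 (Nat.eq_one_of_dvd_coprimes ((hZp q ((hf _).1 h)).pow_right k)
        dvd_rfl (orderOf_dvd_of_pow_eq_one hk))
    rw [hQ, kInf_bot, normalizer_eq_top_iff.2 (by infer_instance : (⊥ : Subgroup X).Normal)]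
    exact le_top
  haveI := Fact.mk S.prime
  have hR : IsPGroup r E' := (S.isPGroup_E.to_le le_rfl).comap_subtype.map f
  have hcop : (Nat.card W').Coprime r :=
    S.coprime_card_r.coprime_dvd_left ((dvd_of_mul_right_eq _ hcard).trans (card_dvd_of_le hWG))
  have hnorm : E' ≤ normalizer (W' : Set _) := by
    refine le_trans (map_mono ?_) (le_normalizer_map f)
    intro e he
    refine mem_normalizer_iff.2 fun x => ?_
    simp only [mem_subgroupOf, Subgroup.coe_mul, InvMemClass.coe_inv]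
    exact mem_normalizer_iff.1 (hEW he) x
  -- the quotient is `p`-constrained with trivial `p'`-core
  have hop : op p W ≤ M := (op_le p W).trans hWM
  set O' := ((op p W).subgroupOf M).map f with hO'
  have hO'W : O' ≤ W' := map_mono fun x hx => op_le p W hx
  have hO'p : IsPGroup p O' := (isPGroup_op p W).comap_subtype.map f
  have hF : Cfsg.generalizedFittingSubgroup W' = Cfsg.pCore p W' := by
    haveI : (O'.subgroupOf W').Normal := by
      refine (normal_subgroupOf_iff_le_normalizer hO'W).2 ((map_mono ?_).trans (le_normalizer_map f))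
      intro w hw
      refine mem_normalizer_iff.2 fun x => ?_
      simp only [mem_subgroupOf, Subgroup.coe_mul, InvMemClass.coe_inv]
      exact mem_normalizer_iff.1 (self_le_normalizer_op p W hw) x
    refine Components.genFitting_eq_pCore_of_selfCentralizing (O'.subgroupOf W') hO'p.comap_subtype ?_
    rintro ⟨_, x, hxW, rfl⟩ hx
    have hxc : (x : X) ∈ centralizer ((op p W : Subgroup X) : Set X) := by
      refine mem_centralizer_iff.2 fun v hv => ?_
      have h := congrArg Subtype.val (mem_centralizer_iff.1 hx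
        ⟨f ⟨v, hop hv⟩, hmemW (op_le p W hv)⟩ ⟨⟨v, hop hv⟩, hv, rfl⟩)
      simp only [MulMemClass.coe_mul] at h
      rw [← map_mul, ← map_mul, hfeq] at h
      simp only [Subgroup.coe_mul, mul_inv_rev] at h
      have h1 : (x : X)⁻¹ * v⁻¹ * x * v ∈ op p W := by
        refine mul_mem ?_ hv
        exact (mem_normalizer_iff''.1 (self_le_normalizer_op p W hxW) _).1 (inv_mem hv)
      rw [← mul_assoc] at h
      have h2 : (x : X)⁻¹ * v⁻¹ * x * v = 1 := by
        obtain ⟨k, hk⟩ := exists_pow_eq_one (isPGroup_op p W) h1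
        exact orderOf_eq_one_iff.1 (Nat.eq_one_of_dvd_coprimes ((hZp _ h).pow_right k) dvd_rfl
          (orderOf_dvd_of_pow_eq_one hk))
      calc v * x = v * x * ((x : X)⁻¹ * v⁻¹ * x * v) := by rw [h2, mul_one]
        _ = x * v := by group
    obtain ⟨z, hz, v, hv, hzv⟩ := (Coprime.mem_sup_iff ((op_le p W).trans
      (hWZ.trans (centralizer_le_normalizer _)))).1
      (by rw [sup_comm]; exact hsc ⟨hxW, hxc⟩ : (x : X) ∈ Z ⊔ op p W)
    refine mem_subgroupOf.2 ⟨⟨v, hop hv⟩, hv, ?_⟩
    rw [hfeq]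
    have hcv : z * v = v * z := mem_centralizer_iff.1 (hWZ (op_le p W hv)) z hz
    have e : v⁻¹ * (x : X) = z := by rw [← hzv, hcv, inv_mul_cancel_left]
    rw [e]
    exact hz
  have hmain := hFF _ W' E' r hR hcop hnorm hne hF
  -- the invariant Sylow subgroups of the quotient
  have hQ' : sInf {T : Subgroup _ | T ≤ W' ∧ IsPGroup p T ∧
      Nat.card T = p ^ (Nat.card W').factorization p ∧ E' ≤ normalizer (T : Set _)} =
      (Q.subgroupOf M).map f := by
    have hdown : ∀ T, InvSyl p E W T → (T.subgroupOf M).map f ≤ W' ∧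
        IsPGroup p ((T.subgroupOf M).map f) ∧
        Nat.card ((T.subgroupOf M).map f) = p ^ (Nat.card W').factorization p ∧
        E' ≤ normalizer (((T.subgroupOf M).map f : Subgroup _) : Set _) := by
      intro T hT
      refine ⟨map_mono fun x hx => hT.1 hx, hT.2.1.comap_subtype.map f, ?_, ?_⟩
      · rw [hfac, ← hT.2.2.1, ← Cores.card_subgroupOf (hT.1.trans hWM)]
        refine (Nat.card_congr (Equiv.ofBijective
          (fun x : T.subgroupOf M => (⟨f x, ⟨x, x.2, rfl⟩⟩ : (T.subgroupOf M).map f)) ⟨?_, ?_⟩)).symm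
        · intro x y hxy
          have h := (hfeq x y).1 (congrArg Subtype.val hxy)
          obtain ⟨k, hk⟩ := exists_pow_eq_one hT.2.1 (T.mul_mem (T.inv_mem x.2) y.2)
          have h1 := orderOf_eq_one_iff.1 (Nat.eq_one_of_dvd_coprimes ((hZp _ h).pow_right k)
            dvd_rfl (orderOf_dvd_of_pow_eq_one hk))
          exact Subtype.ext (Subtype.ext (inv_mul_eq_one.1 h1))
        · rintro ⟨_, x, hx, rfl⟩
          exact ⟨⟨x, hx⟩, rfl⟩
      · refine le_trans (map_mono ?_) (le_normalizer_map f)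
        intro e he
        refine mem_normalizer_iff.2 fun x => ?_
        simp only [mem_subgroupOf, Subgroup.coe_mul, InvMemClass.coe_inv]
        exact mem_normalizer_iff.1 (hT.2.2.2 he) x
    refine le_antisymm ?_ (le_sInf ?_)
    · intro y hy
      obtain ⟨T₀, hT₀⟩ := S.exists_invSyl' (p := p) hWG hEW
      obtain ⟨x, hxT, rfl⟩ := mem_sInf.1 hy _ (hdown T₀ hT₀)
      refine ⟨x, hQ2 x (exists_pow_eq_one hT₀.2.1 hxT) fun T hT => ?_, rfl⟩
      obtain ⟨t, htT, ht⟩ := mem_sInf.1 hy _ (hdown T hT)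
      have h := (hfeq t x).1 ht
      have hc : Commute (t : X) ((t : X)⁻¹ * x) :=
        (mem_centralizer_iff.1 (hWZ (hT.1 htT)) _ h).symm
      have e := eq_of_p_elements (p := p) hc (by rw [mul_inv_cancel_left] : (x : X) = t * ((t : X)⁻¹ * x))
        (exists_pow_eq_one hT.2.1 htT) (exists_pow_eq_one hT₀.2.1 hxT) (hZp _ h)
      rw [e]
      exact htT
    · rintro T' ⟨hT'W, hT'p, hT'c, hT'E⟩
      set T₁ : Subgroup X := ((T'.comap f) ⊓ W.subgroupOf M).map M.subtype with hT₁
      have hT₁W : T₁ ≤ W := by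
        rintro _ ⟨x, hx, rfl⟩; exact hx.2
      have hET₁ : E ≤ normalizer (T₁ : Set X) := fun e he => by
        refine Coprime.mem_normalizer_of_forall ?_
        rintro _ ⟨x, hx, rfl⟩
        refine ⟨⟨e, hEM he⟩ * x * ⟨e, hEM he⟩⁻¹, ⟨?_, (mem_normalizer_iff.1 (hEW he) _).1 hx.2⟩, rfl⟩
        show f _ ∈ T'
        rw [map_mul, map_mul, map_inv]
        exact (mem_normalizer_iff.1 (hT'E ⟨⟨e, hEM he⟩, he, rfl⟩) _).1 hx.1
      obtain ⟨T, hT⟩ := S.exists_invSyl' (p := p) (hT₁W.trans hWG) hET₁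
      have hmap : ((T'.comap f) ⊓ W.subgroupOf M).map f = T' :=
        le_antisymm (map_le_iff_le_comap.2 inf_le_left) fun y hy => by
          obtain ⟨x, hx, rfl⟩ := hT'W hy
          exact ⟨x, ⟨hy, hx⟩, rfl⟩
      have hc : Nat.card T' * Nat.card Z = Nat.card T₁ := by
        rw [hT₁, Cores.card_map_subtype, ← hkc]
        conv_lhs => rw [← hmap]
        refine Cores.card_map_mul_ker f _ (le_inf (fun x hx => ?_) fun x hx => ?_)
        · show f x ∈ T'
          rw [MonoidHom.mem_ker.1 hx]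
          exact T'.one_mem
        · rw [hker] at hx
          exact hZW hx
      have hTW : InvSyl p E W T := by
        refine ⟨hT.1.trans hT₁W, hT.2.1, ?_, hT.2.2.2⟩
        rw [hT.2.2.1, ← hc, Nat.factorization_mul Nat.card_pos.ne' Nat.card_pos.ne', Finsupp.add_apply,
          Nat.factorization_eq_zero_of_not_dvd hpZ, add_zero, hT'c, hfac,
          Nat.Prime.factorization_pow Fact.out, Finsupp.single_eq_same]
      rintro _ ⟨x, hx, rfl⟩
      obtain ⟨x', hx', hxx⟩ := hT.1 (hQ1 T hTW hx)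
      rw [← Subtype.ext (hxx : (x' : X) = x)]
      exact hx'.1
  rw [hQ'] at hmain
  have hQM : Q ≤ M := hQW.trans hWM
  have hQs : (Q.subgroupOf M).map M.subtype = Q := map_subgroupOf_eq_of_le hQM
  have hkM : kInf Q = (kInf (Q.subgroupOf M)).map M.subtype := by
    conv_lhs => rw [← hQs]
    exact FunctorControl.map_inducedFunctor (KInfinity.isCharPFunctor_kInfLower p) M.subtype
      M.subtype_injective hQp.comap_subtype
  have hkf : kInf ((Q.subgroupOf M).map f) = (kInf (Q.subgroupOf M)).map f :=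
    FunctorControl.map_inducedFunctor_of_coprime (KInfinity.isCharPFunctor_kInfLower p) f
      (by rw [hkc]; exact hpZ) hQp.comap_subtype
  rw [hkf] at hmain
  intro w hw
  refine Coprime.mem_normalizer_of_forall ?_
  rw [hkM]
  rintro _ ⟨y, hy, rfl⟩
  have hyQ : (y : X) ∈ Q := kInf_le (Q.subgroupOf M) hy
  obtain ⟨y', hy', he⟩ := (mem_normalizer_iff.1 (hmain (hmemW hw)) (f y)).1 ⟨y, hy, rfl⟩
  refine ⟨y', hy', ?_⟩
  rw [← map_inv, ← map_mul, ← map_mul, hfeq] at he
  simp only [Subgroup.coe_mul, InvMemClass.coe_inv] at he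
  have hyQ' : (y' : X) ∈ Q := kInf_le (Q.subgroupOf M) hy'
  have hc : Commute (y' : X) ((y' : X)⁻¹ * (w * y * w⁻¹)) :=
    (mem_centralizer_iff.1 (hWZ (hQW hyQ')) _ he).symm
  obtain ⟨k, hk⟩ := exists_pow_eq_one hQp hyQ
  have e := eq_of_p_elements (p := p) hc
    (by rw [mul_inv_cancel_left] : w * (y : X) * w⁻¹ = y' * ((y' : X)⁻¹ * (w * y * w⁻¹)))
    (exists_pow_eq_one hQp hyQ') ⟨k, by rw [conj_pow, hk, mul_one, mul_inv_cancel]⟩ (hZp _ he)
  exact e.symm

/-- If `E` centralises `O^p(F*(W))` then `W` normalises `K_∞(P ∩ W)`. -/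
theorem le_normalizer_kInf (hFF : FlavellFunctor.{u} p) {W : Subgroup X} (hCW : fix G E ≤ W)
    (hWG : W ≤ G) (hEW : E ≤ normalizer (W : Set X))
    (hK : E ≤ centralizer ((rf p W : Subgroup X) : Set X)) :
    W ≤ normalizer ((kInf (big p G E ⊓ W) : Subgroup X) : Set X) := by
  set K := rf p W with hKdef
  set Q := big p G E ⊓ W with hQdef
  set W₀ := W ⊓ centralizer (K : Set X) with hW₀
  have hQp : IsPGroup p Q := (S.isPGroup_big (p := p)).to_le inf_le_left
  have hWK : W ≤ normalizer (K : Set X) := self_le_normalizer_rf p W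
  have hKfix : K ≤ fix G E := le_inf ((rf_le p W).trans hWG) (le_centralizer_iff.1 hK)
  have hfixQ : fix G E ≤ normalizer (Q : Set X) := fun c hc =>
    Coprime.mem_normalizer_of_forall fun x hx =>
      ⟨(mem_normalizer_iff.1 (S.fix_le_normalizer_big hc) x).1 hx.1,
        W.mul_mem (W.mul_mem (hCW hc) hx.2) (W.inv_mem (hCW hc))⟩
  have hEQ : E ≤ normalizer (Q : Set X) := S.E_le_normalizer_inf S.E_le_normalizer_big hEW
  have hWE : ⁅W, E⁆ ≤ W₀ :=
    le_inf (le_normalizer_iff_commutator_le_left.1 hEW) (S.commutator_le_centralizer hWK hK)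
  have hopK : op p K ≤ op p W :=
    le_op p (isPGroup_op p K) ((op_le p K).trans (rf_le p W)) (hWK.trans (le_normalizer_op p))
  have hQ0 : Q ≤ W₀ := by
    refine le_inf inf_le_right ?_
    refine (S.sup_fix (inf_le_right.trans hWG) hEQ).ge.trans ?_
    refine sup_le ((commutator_mono inf_le_right le_rfl).trans (hWE.trans inf_le_right)) ?_
    rintro q ⟨hqQ, hqE⟩
    rw [← SetLike.mem_coe]
    have hK' : K ≤ centralizer ({q} : Set X) := by
      refine (rf_le_closure_self p W).trans ((closure_le _).2 fun k hk => ?_)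
      have hzK : q * k * q⁻¹ * k⁻¹ ∈ K :=
        K.mul_mem ((mem_normalizer_iff.1 (hWK hqQ.2) k).1 hk.1) (K.inv_mem hk.1)
      have hzP : q * k * q⁻¹ * k⁻¹ ∈ big p G E := by
        rw [show q * k * q⁻¹ * k⁻¹ = q * (k * q⁻¹ * k⁻¹) by group]
        exact mul_mem hqQ.1
          ((mem_normalizer_iff.1 (S.fix_le_normalizer_big (hKfix hk.1)) _).1 (inv_mem hqQ.1))
      have hz : q * k * q⁻¹ * k⁻¹ ∈ op p W := hopK (le_op p (U := big p G E ⊓ K)
        ((S.isPGroup_big (p := p)).to_le inf_le_left) inf_le_right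
        (fun c hc => Coprime.mem_normalizer_of_forall fun x hx =>
          ⟨(mem_normalizer_iff.1 (S.fix_le_normalizer_big (hKfix hc)) x).1 hx.1,
            K.mul_mem (K.mul_mem hc hx.2) (K.inv_mem hc)⟩)
        (⟨hzP, hzK⟩ : q * k * q⁻¹ * k⁻¹ ∈ big p G E ⊓ K))
      exact commute_singleton.2 (commute_of_conj hk.2 (exists_pow_eq_one (isPGroup_op p W) hz)
        ((mem_centralizer_iff.1 (rf_le_centralizer_op p W hk.1) _ hz)))
    exact mem_centralizer_iff.2 fun k hk => (commute_singleton.1 (hK' hk)).symm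
  have hop0 : op p W ≤ W₀ :=
    le_inf (op_le p W) (le_centralizer_iff.1 (rf_le_centralizer_op p W))
  have hW0G : W₀ ≤ G := inf_le_left.trans hWG
  have hEW0 : E ≤ normalizer (W₀ : Set X) := fun e he => Coprime.mem_normalizer_of_forall fun x hx =>
    ⟨(mem_normalizer_iff.1 (hEW he) x).1 hx.1,
      (centralizer (K : Set X)).mul_mem ((centralizer (K : Set X)).mul_mem (hK he) hx.2)
        ((centralizer (K : Set X)).inv_mem (hK he))⟩
  have hW0N : W ≤ normalizer (W₀ : Set X) := fun w hw => Coprime.mem_normalizer_of_forall fun x hx =>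
    ⟨W.mul_mem (W.mul_mem hw hx.1) (W.inv_mem hw), mem_centralizer_iff.2 fun k hk => by
      have hk' := (mem_normalizer_iff''.1 (hWK hw) k).1 hk
      calc k * (w * x * w⁻¹) = w * ((w⁻¹ * k * w) * x) * w⁻¹ := by group
        _ = w * (x * (w⁻¹ * k * w)) * w⁻¹ := by rw [mem_centralizer_iff.1 hx.2 _ hk']
        _ = w * x * w⁻¹ * k := by group⟩
  -- the central `p'`-part of `K`
  let Z : Subgroup X :=
    { carrier := {z | z ∈ K ∧ z ∈ centralizer (K : Set X) ∧ (orderOf z).Coprime p}
      one_mem' := ⟨K.one_mem, one_mem _, by simp⟩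
      mul_mem' := by
        rintro x y ⟨hx, hx', hxo⟩ ⟨hy, hy', hyo⟩
        refine ⟨K.mul_mem hx hy, mul_mem hx' hy', Nat.Coprime.coprime_dvd_left ?_ (hxo.mul_left hyo)⟩
        exact (show Commute x y from (mem_centralizer_iff.1 hx' y hy).symm).orderOf_mul_dvd_mul_orderOf
      inv_mem' := by
        rintro x ⟨hx, hx', hxo⟩
        exact ⟨K.inv_mem hx, inv_mem hx', by rwa [orderOf_inv]⟩ }
  have hsc : W₀ ⊓ centralizer ((op p W₀ : Subgroup X) : Set X) ≤ op p W₀ ⊔ Z := by
    rintro x ⟨hx, hxc⟩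
    have hopW : op p W ≤ op p W₀ := le_op p (isPGroup_op p W) hop0
      (inf_le_left.trans (self_le_normalizer_op p W))
    have hxo : x ∈ centralizer ((op p W : Subgroup X) : Set X) :=
      centralizer_le (SetLike.coe_subset_coe.2 hopW) hxc
    have hxF : x ∈ fstar W := by
      refine centralizer_fstar_inf_le W ⟨hx.1, mem_centralizer_iff.2 fun y hy => ?_⟩
      have hy' : y ∈ centralizer ({x} : Set X) := by
        refine (fstar_le p W).trans (sup_le ?_ ?_) hy <;> intro z hz <;> refine commute_singleton.2 ?_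
        · exact (mem_centralizer_iff.1 hxo z hz).symm
        · exact (mem_centralizer_iff.1 hx.2 z hz).symm
      exact (commute_singleton.1 hy').symm
    obtain ⟨v, hv, k, hk, rfl⟩ :=
      (Coprime.mem_sup_iff ((rf_le p W).trans (self_le_normalizer_op p W))).1 (fstar_le p W hxF)
    have hkc : k ∈ centralizer (K : Set X) := by
      have := mul_mem (inv_mem (le_centralizer_iff.1 (rf_le_centralizer_op p W) hv)) hx.2
      rwa [inv_mul_cancel_left] at this
    obtain ⟨a, b, hab, ha, hb, ⟨j, hj⟩, hbo⟩ := Transfer.exists_pPart_mul (p := p) k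
    have haK : a ∈ K := (zpowers_le.2 hk) ha
    have ha' : a ∈ centralizer (K : Set X) := (zpowers_le.2 hkc) ha
    have haop : a ∈ op p W := hopK (le_op p
      (IsPGroup.of_card (n := j) ((Nat.card_zpowers a).trans hj)) (zpowers_le.2 haK)
      (le_trans (le_centralizer_iff.1 (zpowers_le.2 ha')) (centralizer_le_normalizer _))
      (mem_zpowers a))
    rw [hab, ← mul_assoc]
    exact mul_mem (mem_sup_left (hopW (mul_mem hv haop)))
      (mem_sup_right ⟨(zpowers_le.2 hk) hb, (zpowers_le.2 hkc) hb, hbo⟩)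
  have h0 := S.le_normalizer_kInf_of_quotient hFF hW0G hEW0 (Z := Z) (Q := Q)
    (fun z hz => ⟨rf_le p W hz.1, hz.2.1⟩)
    (fun w hw => mem_centralizer_iff.2 fun z hz => mem_centralizer_iff.1 hw.2 z hz.1)
    (fun e he => mem_centralizer_iff.2 fun z hz => mem_centralizer_iff.1 (hK he) z hz.1)
    (fun z hz => hz.2.2) hQ0 hQp
    (fun T hT => S.le_invSyl hW0G hEW0 hQ0 hQp hEQ
      (le_trans (inf_le_inf_right _ hW0G) hfixQ) hT)
    (fun a ha hall => by
      obtain ⟨k, hk⟩ := ha
      have h := S.le_big_of_forall_invSyl (p := p) hW0G hEW0 (hCW.trans hW0N)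
        (U := zpowers a) (fun T hT => zpowers_le.2 (hall T hT)) (mem_zpowers a)
      exact ⟨h.1, h.2.1⟩) hsc
  intro w hw
  rw [← S.sup_fix hWG hEW] at hw
  refine (sup_le (hWE.trans h0) ?_ : _ ≤ normalizer ((kInf Q : Subgroup X) : Set X)) hw
  exact fun c hc => normalizer_le_normalizer_kInf hQp (hfixQ ⟨hWG hc.1, hc.2⟩)

end Setup

end Cfsg.Agent.CentRes
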