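import Cfsg.Agent.Lib.CentResidual.Central
import Cfsg.Agent.Lib.CentResidual.Functor
import Cfsg.Agent.Lib.PGroup.CyclicNormalAbelian
import Cfsg.Agent.Lib.Isolated.Basic

/-!
Noncyclic abelian coprime action: the centraliser residual layers (statement of S1931), given the
functor theorem.

* `Setup.le_normalizer_kInf_cent` : `C_G(a)` normalises `K_∞(P ∩ W)` for the large overgroups `W`
* `Setup.le_centralizer_rf` : `E` centralises `O^p(F*(G))`
* `le_centralizer_rf_of_noncyclic`
-/

set_option autoImplicit false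
set_option linter.unusedSectionVars false
set_option linter.style.haveILetI false

open scoped Pointwise commutatorElement

namespace Cfsg.Agent.CentRes

open Subgroup

universe u

variable {X : Type u} [Group X] [Finite X] {p r : ℕ} [Fact p.Prime] {G E : Subgroup X}

theorem centralizer_kInf_le {Q : Subgroup X} (hQ : IsPGroup p Q) :
    Q ⊓ centralizer ((kInf Q : Subgroup X) : Set X) ≤ kInf Q := by
  rintro x ⟨hxQ, hx⟩
  haveI := hQ.isNilpotent
  exact ⟨⟨x, hxQ⟩, KInfinity.centralizer_kInfLower_le (mem_centralizer_iff.2 fun y hy =>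
    Subtype.ext (mem_centralizer_iff.1 hx _ ⟨y, hy, rfl⟩)), rfl⟩

theorem le_normalizer_sup {A B K : Subgroup X} (hA : K ≤ normalizer (A : Set X))
    (hB : K ≤ normalizer (B : Set X)) : K ≤ normalizer ((A ⊔ B : Subgroup X) : Set X) := fun k hk => by
  refine Coprime.mem_normalizer_of_forall fun x hx => ?_
  have hle : A ⊔ B ≤ (A ⊔ B).comap (MulAut.conj k).toMonoidHom :=
    sup_le (fun y hy => mem_sup_left ((mem_normalizer_iff.1 (hA hk) y).1 hy))
      fun y hy => mem_sup_right ((mem_normalizer_iff.1 (hB hk) y).1 hy)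
  exact hle hx

namespace Setup

variable (S : Setup G E p r)
include S

theorem fix_le_normalizer_inf {W : Subgroup X} (hCW : fix G E ≤ W) :
    fix G E ≤ normalizer ((big p G E ⊓ W : Subgroup X) : Set X) := fun c hc =>
  Coprime.mem_normalizer_of_forall fun x hx =>
    ⟨(mem_normalizer_iff.1 (S.fix_le_normalizer_big hc) x).1 hx.1,
      W.mul_mem (W.mul_mem (hCW hc) hx.2) (W.inv_mem (hCW hc))⟩

/-- For the large overgroups `W` of `C_G(a)`, `C_G(a)` normalises `K_∞(P ∩ W)`. -/
theorem le_normalizer_kInf_cent (hFF : FlavellFunctor.{u} p) {a : X} (ha : a ∈ E) (ha1 : a ≠ 1)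
    {W : Subgroup X} (hW : Over p G E W) (haW : cent G a ≤ W) :
    cent G a ≤ normalizer ((kInf (big p G E ⊓ W) : Subgroup X) : Set X) := by
  induction hn : Nat.card W using Nat.strong_induction_on generalizing W with
  | _ n ih =>
  subst hn
  set Q := big p G E ⊓ W with hQdef
  set Xo := op p W with hXodef
  set Y := rf p W with hYdef
  set H := cent G a with hHdef
  have hWY : W ≤ normalizer (Y : Set X) := self_le_normalizer_rf p W
  have hEY : E ≤ normalizer (Y : Set X) := hW.norm.trans (le_normalizer_rf p)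
  have hYW : Y ≤ W := rf_le p W
  have hYX : Y ≤ centralizer (Xo : Set X) := rf_le_centralizer_op p W
  have hQp : IsPGroup p Q := (S.isPGroup_big (p := p)).to_le inf_le_left
  have hXQ : Xo ≤ Q := le_inf (S.op_le_big hW) (op_le p W)
  have hXY : Xo ⊓ Y ≤ centralizer (Y : Set X) := inf_le_left.trans (le_centralizer_iff.1 hYX)
  have hlt : ∀ {W' : Subgroup X}, W' < W → Nat.card W' < Nat.card W := fun {W'} h =>
    (card_le_of_le h.le).lt_of_ne fun he => h.ne (eq_of_le_of_card_ge h.le he.ge)
  by_cases hcen : Q ⊓ Y ≤ centralizer (Y : Set X)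
  · exact haW.trans (S.le_normalizer_kInf hFF hW.fix_le hW.le hW.norm
      (S.le_centralizer_of_inf_le hW hYW hWY hEY (rf_le_closure_self p W) hcen))
  set D := Y ⊓ centralizer ({a} : Set X) with hDdef
  have hDH : D ≤ H := fun y hy => ⟨hW.le (hYW hy.1), hy.2⟩
  have hHD : H ≤ normalizer (D : Set X) := fun g hg => Coprime.mem_normalizer_of_forall fun y hy =>
    ⟨(mem_normalizer_iff.1 (hWY (haW hg)) y).1 hy.1, (centralizer ({a} : Set X)).mul_mem
      ((centralizer ({a} : Set X)).mul_mem hg.2 hy.2) ((centralizer ({a} : Set X)).inv_mem hg.2)⟩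
  have hEH : E ≤ normalizer (H : Set X) := S.E_le_normalizer_cent ha
  have hED : E ≤ normalizer (D : Set X) :=
    S.E_le_normalizer_inf hEY (S.E_le_normalizer_centralizer_singleton ha)
  have hCH : fix G E ≤ H := S.fix_le_cent ha
  set U := op p D with hUdef
  have hUH : H ≤ normalizer (U : Set X) := hHD.trans (le_normalizer_op p)
  have hUY : U ≤ Y := (op_le p D).trans inf_le_left
  have hUp : IsPGroup p U := isPGroup_op p D
  -- overgroups normalising a `p`-group containing `O_p(W)` are large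
  have hover : ∀ Z : Subgroup X, Xo ≤ Z → IsPGroup p Z → Z ≤ big p G E ⊓ W →
      E ≤ normalizer (Z : Set X) → fix G E ≤ normalizer (Z : Set X) →
      (big p G E ⊓ centralizer (Z : Set X) ≤ normalizer (Z : Set X) →
        Over p G E (W ⊓ normalizer (Z : Set X))) ∧
      (W ≤ normalizer (Z : Set X) → Z ≤ Xo) := by
    intro Z hXZ hZp hZQ hEZ hCZ
    refine ⟨fun h => ⟨le_inf hW.fix_le hCZ, inf_le_left.trans hW.le,
      S.E_le_normalizer_inf hW.norm (hEZ.trans le_normalizer), ?_⟩, fun h => ?_⟩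
    · have hZop : Z ≤ op p (W ⊓ normalizer (Z : Set X)) :=
        le_op p hZp (le_inf (hZQ.trans inf_le_right) le_normalizer) inf_le_right
      rintro x ⟨hxP, hxc⟩
      have hxZ : x ∈ centralizer (Z : Set X) := centralizer_le (SetLike.coe_subset_coe.2 hZop) hxc
      exact ⟨hW.cen ⟨hxP, centralizer_le (SetLike.coe_subset_coe.2 hXZ) hxZ⟩, h ⟨hxP, hxZ⟩⟩
    · exact le_op p hZp (hZQ.trans inf_le_right) h
  have hEQ : E ≤ normalizer (Q : Set X) := S.E_le_normalizer_inf S.E_le_normalizer_big hW.norm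
  have key : H ≤ normalizer ((kInf Q : Subgroup X) : Set X) ∨ U ≤ Xo := by
    let 𝒢 : Set (Subgroup X) := {W' | W' < W ∧ Over p G E W' ∧ H ≤ W' ∧ Xo ≤ W'}
    by_cases hG : 𝒢.Nonempty
    · obtain ⟨W', ⟨hW'lt, hW', hHW', hXW'⟩, hmax⟩ :=
        (Set.toFinite 𝒢).exists_maximalFor (fun W' => Nat.card (big p G E ⊓ W' : Subgroup X)) _ hG
      set Q' := big p G E ⊓ W' with hQ'def
      have hIH : H ≤ normalizer ((kInf Q' : Subgroup X) : Set X) :=
        ih _ (hlt hW'lt) hW' hHW' rfl
      have hQ'p : IsPGroup p Q' := (S.isPGroup_big (p := p)).to_le inf_le_left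
      have hQ'Q : Q' ≤ Q := inf_le_inf_left _ hW'lt.le
      set Z := kInf Q' ⊔ Xo with hZdef
      have hXQ' : Xo ≤ Q' := le_inf (S.op_le_big hW) hXW'
      have hZQ' : Z ≤ Q' := sup_le (kInf_le _) hXQ'
      have hEQ' : E ≤ normalizer (Q' : Set X) :=
        S.E_le_normalizer_inf S.E_le_normalizer_big hW'.norm
      have hEZ : E ≤ normalizer (Z : Set X) := le_normalizer_sup
        (hEQ'.trans (normalizer_le_normalizer_kInf hQ'p)) (hW.norm.trans (le_normalizer_op p))
      have hWX : W ≤ normalizer (Xo : Set X) := self_le_normalizer_op p W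
      have hnQ : Q ⊓ normalizer (Q' : Set X) ≤ normalizer (Z : Set X) := le_normalizer_sup
        (inf_le_right.trans (normalizer_le_normalizer_kInf hQ'p))
        ((inf_le_left.trans inf_le_right).trans hWX)
      have hCZ : fix G E ≤ normalizer (Z : Set X) := le_normalizer_sup
        ((S.fix_le_normalizer_inf hW'.fix_le).trans (normalizer_le_normalizer_kInf hQ'p))
        (hW.fix_le.trans hWX)
      obtain ⟨h1, h2⟩ := hover Z le_sup_right (hQ'p.to_le hZQ') (hZQ'.trans hQ'Q) hEZ hCZ
      by_cases hWZ : W ≤ normalizer (Z : Set X)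
      · right
        have hkX : kInf Q' ≤ Xo := le_sup_left.trans (h2 hWZ)
        have hUQ' : U ≤ Q' := le_inf
          (S.le_big (hUY.trans (hYW.trans hW.le)) hUp (hED.trans (le_normalizer_op p))
            (hCH.trans hUH)) (((op_le p D).trans hDH).trans hHW')
        exact le_trans (le_inf hUQ'
          ((hUY.trans hYX).trans (centralizer_le (SetLike.coe_subset_coe.2 hkX))))
          ((centralizer_kInf_le hQ'p).trans hkX)
      · left
        have hW'' : Over p G E (W ⊓ normalizer (Z : Set X)) := h1 (by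
          rintro x ⟨hxP, hxZ⟩
          exact centralizer_le_normalizer _ hxZ)
        have hmem : W ⊓ normalizer (Z : Set X) ∈ 𝒢 :=
          ⟨lt_of_le_of_ne inf_le_left fun he => hWZ (he ▸ inf_le_right), hW'',
            le_inf haW (le_normalizer_sup hIH (haW.trans hWX)),
            le_inf (op_le p W) (le_sup_right.trans le_normalizer)⟩
        have hle : Q' ≤ big p G E ⊓ (W ⊓ normalizer (Z : Set X)) := fun x hx =>
          ⟨hx.1, (hQ'Q hx).2, hnQ ⟨hQ'Q hx, le_normalizer hx⟩⟩
        have heq : Q' = big p G E ⊓ (W ⊓ normalizer (Z : Set X)) :=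
          eq_of_le_of_card_ge hle (hmax hmem (card_le_of_le hle))
        have hQQ : Q' = Q := Isolated.eq_of_normalizer_le hQp hQ'Q fun g hg hgn =>
          heq.ge ⟨hg.1, hg.2, hnQ ⟨hg, hgn⟩⟩
        rw [← hQQ]
        exact hIH
    · right
      set V := op p H with hVdef
      have hHX : H ≤ normalizer (Xo : Set X) := haW.trans (self_le_normalizer_op p W)
      have hVP : V ≤ big p G E := S.le_big ((op_le p H).trans inf_le_left) (isPGroup_op p H)
        (hEH.trans (le_normalizer_op p)) (hCH.trans (self_le_normalizer_op p H))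
      have hZQ : V ⊔ Xo ≤ Q := sup_le (le_inf hVP ((op_le p H).trans haW)) hXQ
      have hHZ : H ≤ normalizer ((V ⊔ Xo : Subgroup X) : Set X) :=
        le_normalizer_sup (self_le_normalizer_op p H) hHX
      obtain ⟨h1, h2⟩ := hover (V ⊔ Xo) le_sup_right (hQp.to_le hZQ) hZQ
        (le_normalizer_sup (hEH.trans (le_normalizer_op p)) (hW.norm.trans (le_normalizer_op p)))
        (hCH.trans hHZ)
      have hWZ : W ≤ normalizer ((V ⊔ Xo : Subgroup X) : Set X) := by
        by_contra hne
        exact hG ⟨_, lt_of_le_of_ne inf_le_left fun he => hne (he ▸ inf_le_right),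
          h1 (fun x hx => centralizer_le_normalizer _ hx.2), le_inf haW hHZ,
          le_inf (op_le p W) (le_sup_right.trans le_normalizer)⟩
      exact ((le_op p hUp ((op_le p D).trans hDH) hUH).trans le_sup_left).trans (h2 hWZ)
  rcases key with h | hUX
  · exact h
  have hUc : U ≤ centralizer (Y : Set X) := (le_inf hUX hUY).trans hXY
  have hDG : D ≤ G := hDH.trans inf_le_left
  have hDE : ⁅D, E⁆ ≤ U := by
    refine le_trans (commutator_mono (le_inf le_rfl ?_) le_rfl) (S.commutator_centralizer_op_le hDG hED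
      ((S.loc a ha ha1).trans (centralizer_le (SetLike.coe_subset_coe.2 (rf_mono p hDH hHD)))))
    exact inf_le_left.trans (le_centralizer_iff.1 hUc)
  -- an `a`-invariant Sylow subgroup of `Y` is `E`-invariant
  have haN : zpowers a ≤ normalizer (Y : Set X) := zpowers_le.2 (hEY ha)
  have hYG : Y ≤ G := hYW.trans hW.le
  have hinv : ∀ T : Subgroup X, T ≤ Y → Nat.card T = p ^ (Nat.card Y).factorization p →
      a ∈ normalizer (T : Set X) → InvSyl p E Y T := by
    intro T hTY hTc haT
    obtain ⟨T₀, hT₀⟩ := S.exists_invSyl' (p := p) hYG hEY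
    obtain ⟨c, hc, he⟩ := Coprime.exists_mem_centralizer_conj_of_card (A := zpowers a) haN
      (((S.coprime_sub hYG).coprime_dvd_left (card_dvd_of_le (zpowers_le.2 ha))))
      (Or.inl (Group.isSolvable_of_comm fun x y => Subtype.ext (by
        obtain ⟨i, hi⟩ := x.2
        obtain ⟨j, hj⟩ := y.2
        simp only [Subgroup.coe_mul, ← hi, ← hj, ← zpow_add, add_comm])))
      hTY hT₀.1 (zpowers_le.2 haT) (zpowers_le.2 (hT₀.2.2.2 ha)) hTc hT₀.2.2.1
    have hcD : c ∈ D :=
      ⟨hc.1, commute_singleton.2 (mem_centralizer_iff.1 hc.2 a (mem_zpowers a))⟩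
    have hcs : c ∈ ⁅D, E⁆ ⊔ (D ⊓ centralizer (E : Set X)) := by rw [S.sup_fix hDG hED]; exact hcD
    obtain ⟨v, hv, c', hc', rfl⟩ := (Coprime.mem_sup_iff
      (inf_le_left.trans (normalizer_commutator_ge_left D E))).1 hcs
    have hvc : v ∈ centralizer (Y : Set X) := hUc (hDE hv)
    have hcc : MulAut.conj (v * c') • T₀ = MulAut.conj c' • T₀ := by
      ext x
      rw [Coprime.mem_conj, Coprime.mem_conj]
      constructor <;> intro hx
      · have hY' := hT₀.1 hx
        have e : v * c' * ((v * c')⁻¹ * x * (v * c')) * (v * c')⁻¹ = x := by group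
        have hxY : x ∈ Y := e ▸ Y.mul_mem (Y.mul_mem (Y.mul_mem (hUY (hDE hv)) hc'.1.1) hY')
          (Y.inv_mem (Y.mul_mem (hUY (hDE hv)) hc'.1.1))
        have e2 : (v * c')⁻¹ * x * (v * c') = c'⁻¹ * x * c' := by
          rw [show (v * c')⁻¹ * x * (v * c') = c'⁻¹ * (v⁻¹ * (x * v)) * c' by group,
            mem_centralizer_iff.1 hvc x hxY, inv_mul_cancel_left]
        rwa [e2] at hx
      · have hY' := hT₀.1 hx
        have e : c' * (c'⁻¹ * x * c') * c'⁻¹ = x := by group
        have hxY : x ∈ Y := e ▸ Y.mul_mem (Y.mul_mem hc'.1.1 hY') (Y.inv_mem hc'.1.1)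
        have e2 : (v * c')⁻¹ * x * (v * c') = c'⁻¹ * x * c' := by
          rw [show (v * c')⁻¹ * x * (v * c') = c'⁻¹ * (v⁻¹ * (x * v)) * c' by group,
            mem_centralizer_iff.1 hvc x hxY, inv_mul_cancel_left]
        rwa [e2]
    rw [← he, hcc]
    exact conj_invSyl hT₀ (hWY (hYW hc'.1.1)) (centralizer_le_normalizer _ hc'.2)
  set U₀ := Q ⊓ Y with hU₀def
  have hfixY : fix G E ≤ normalizer (Y : Set X) := hW.fix_le.trans hWY
  have hU₀ : ∀ T, InvSyl p E Y T → U₀ ≤ T := fun T hT => S.le_invSyl hYG hEY inf_le_right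
    (hQp.to_le inf_le_left) (S.E_le_normalizer_inf hEQ hEY)
    (fun c hc => by
      have hcf : c ∈ fix G E := ⟨hYG hc.1, hc.2⟩
      refine Coprime.mem_normalizer_of_forall fun x hx =>
        ⟨(mem_normalizer_iff.1 (S.fix_le_normalizer_inf hW.fix_le hcf) x).1 hx.1,
          (mem_normalizer_iff.1 (hfixY hcf) x).1 hx.2⟩) hT
  have hHU₀ : H ≤ normalizer (U₀ : Set X) := by
    intro g hg
    refine Coprime.mem_normalizer_of_forall fun x hx => ?_
    have hgY : g ∈ normalizer (Y : Set X) := hWY (haW hg)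
    have h : ∀ T, InvSyl p E Y T → g * x * g⁻¹ ∈ T := by
      intro T hT
      have hT' : InvSyl p E Y (MulAut.conj g⁻¹ • T) := by
        refine hinv _ ?_ (by rw [Coprime.card_conj, hT.2.2.1]) ?_
        · intro y hy
          rw [Coprime.mem_conj] at hy
          have := (mem_normalizer_iff''.1 hgY _).1 (hT.1 hy)
          simpa [mul_assoc] using this
        · refine Coprime.mem_normalizer_of_forall fun y hy => ?_
          rw [Coprime.mem_conj] at hy ⊢
          have hag : Commute a g := commute_singleton.1 hg.2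
          have h2 := (mem_normalizer_iff.1 (hT.2.2.2 ha) _).1 hy
          convert h2 using 1
          simp only [inv_inv]
          calc g * (a * y * a⁻¹) * g⁻¹ = (g * a) * y * (g * a)⁻¹ := by group
            _ = (a * g) * y * (a * g)⁻¹ := by rw [hag.eq]
            _ = a * (g * y * g⁻¹) * a⁻¹ := by group
      have hxT := hU₀ _ hT' hx
      rw [Coprime.mem_conj] at hxT
      simpa using hxT
    have hle := S.le_big_of_forall_invSyl (p := p) hYG hEY hfixY
      (U := zpowers (g * x * g⁻¹)) (fun T hT => zpowers_le.2 (h T hT)) (mem_zpowers _)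
    exact ⟨⟨hle.1, hYW hle.2⟩, hle.2⟩
  set Z := U₀ ⊔ Xo with hZdef
  have hZQ : Z ≤ Q := sup_le inf_le_left hXQ
  have hWX : W ≤ normalizer (Xo : Set X) := self_le_normalizer_op p W
  have hQZ : Q ≤ normalizer (Z : Set X) := le_normalizer_sup
    (fun q hq => Coprime.mem_normalizer_of_forall fun x hx =>
      ⟨Q.mul_mem (Q.mul_mem hq hx.1) (Q.inv_mem hq), (mem_normalizer_iff.1 (hWY hq.2) x).1 hx.2⟩)
    (inf_le_right.trans hWX)
  have hHZ : H ≤ normalizer (Z : Set X) := le_normalizer_sup hHU₀ (haW.trans hWX)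
  obtain ⟨h1, h2⟩ := hover Z le_sup_right (hQp.to_le hZQ) hZQ
    (le_normalizer_sup (S.E_le_normalizer_inf hEQ hEY) (hW.norm.trans (le_normalizer_op p)))
    (hCH.trans hHZ)
  have hW' : Over p G E (W ⊓ normalizer (Z : Set X)) :=
    h1 fun x hx => centralizer_le_normalizer _ hx.2
  have hQ' : big p G E ⊓ (W ⊓ normalizer (Z : Set X)) = Q :=
    le_antisymm (inf_le_inf_left _ inf_le_left) (fun x hx => ⟨hx.1, hx.2, hQZ hx⟩)
  have hprop : W ⊓ normalizer (Z : Set X) < W := lt_of_le_of_ne inf_le_left fun he => hcen (by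
    have := h2 (he.symm.le.trans inf_le_right)
    exact (le_inf ((le_sup_left.trans this) : U₀ ≤ Xo) inf_le_right).trans hXY)
  have := ih _ (hlt hprop) hW' (le_inf haW hHZ) rfl
  rwa [hQ'] at this

/-- `E` centralises `O^p(F*(G))`. -/
theorem le_centralizer_rf (hFF : FlavellFunctor.{u} p) :
    E ≤ centralizer ((rf p G : Subgroup X) : Set X) := by
  have hW : Over p G E G := ⟨inf_le_left, le_rfl, S.norm, inf_le_left.trans S.big_le⟩
  set Y := rf p G with hY
  refine S.le_centralizer_of_inf_le hW (rf_le p G) (self_le_normalizer_rf p G)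
    (S.norm.trans (le_normalizer_rf p)) (rf_le_closure_self p G) ?_
  set Q := big p G E ⊓ G with hQ
  have hQp : IsPGroup p Q := (S.isPGroup_big (p := p)).to_le inf_le_left
  have hG : G ≤ normalizer ((kInf Q : Subgroup X) : Set X) := S.gen le_rfl S.norm fun a ha ha1 =>
    S.le_normalizer_kInf_cent hFF ha ha1 hW inf_le_left
  have hk : kInf Q ≤ op p G := le_op p (hQp.to_le (kInf_le Q)) ((kInf_le Q).trans inf_le_right) hG
  rintro x ⟨hxQ, hxY⟩
  have hxo := rf_le_centralizer_op p G hxY
  have hxk : x ∈ kInf Q :=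
    centralizer_kInf_le hQp ⟨hxQ, centralizer_le (SetLike.coe_subset_coe.2 hk) hxo⟩
  exact le_centralizer_iff.1 (rf_le_centralizer_op p G) (hk hxk)

end Setup

/-- A noncyclic abelian `r`-group `R` acting coprimely centralises `O^p(F*(G))` when it centralises
`O^p(F*(C_G(a)))` for every `a ∈ R#`. -/
theorem le_centralizer_rf_of_noncyclic (hFF : FlavellFunctor.{u} p) (hp : 3 < p) [Fact r.Prime]
    {R : Subgroup X} (hR : IsPGroup r R) (hcop : (Nat.card G).Coprime r)
    (hnorm : R ≤ normalizer (G : Set X)) (hab : IsMulCommutative R) (hnc : ¬ IsCyclic R)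
    (hloc : ∀ a ∈ R, a ≠ 1 →
      R ≤ centralizer ((rf p (G ⊓ centralizer ({a} : Set X)) : Subgroup X) : Set X)) :
    R ≤ centralizer ((rf p G : Subgroup X) : Set X) := by
  obtain ⟨E₀, -, hE₀, hE₀c⟩ := PGroup.exists_normal_elementary_sq_of_abelian hR (A := (⊤ : Subgroup R))
    (fun x _ y _ => hab.1.1 x y) (fun ⟨g, _, hg⟩ => hnc ⟨g, fun x => hg.ge (mem_top x)⟩)
  set E := E₀.map R.subtype with hE
  have hER : E ≤ R := map_subtype_le _
  have hEc : Nat.card E = r * r := by rw [hE, Cores.card_map_subtype, hE₀c, sq]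
  have hexp : ∀ a ∈ E, a ^ r = 1 := by
    rintro _ ⟨x, hx, rfl⟩
    have := congrArg Subtype.val (hE₀.2 x hx)
    simpa using this
  have hEcomm : IsMulCommutative E := ⟨⟨fun x y => Subtype.ext
    (show (x : X) * y = y * x from congrArg (Subtype.val : R → X)
      (hab.1.1 ⟨x, hER x.2⟩ ⟨y, hER y.2⟩))⟩⟩
  have S : Setup G E p r :=
    { three_lt := hp
      prime := Fact.out
      card_E := hEc
      exp := hexp
      comm := hEcomm
      norm := hER.trans hnorm
      cop := by rw [hEc]; exact (hcop.mul_right hcop).symm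
      loc := fun a ha ha1 => hER.trans (hloc a (hER ha) ha1) }
  have hY := S.le_centralizer_rf hFF
  rw [le_centralizer_iff]
  intro y hy
  refine mem_centralizer_iff.2 fun g hg => ?_
  obtain ⟨a, ha, ha1⟩ : ∃ a ∈ E, a ≠ (1 : X) := by
    by_contra! h
    rw [show E = ⊥ from (eq_bot_iff_forall E).2 h, card_bot] at hEc
    nlinarith [S.prime.two_le]
  set Y := rf p G with hYdef
  have hYH : Y ≤ G ⊓ centralizer ({a} : Set X) := le_inf (rf_le p G) fun z hz =>
    commute_singleton.2 (mem_centralizer_iff.1 (le_centralizer_iff.1 hY hz) a ha)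
  have hn : G ⊓ centralizer ({a} : Set X) ≤ normalizer (Y : Set X) :=
    inf_le_left.trans (self_le_normalizer_rf p G)
  have hYY : Y ≤ rf p (G ⊓ centralizer ({a} : Set X)) := by
    refine le_rf_of_closure p ?_ (rf_le_closure_self p G)
    refine le_trans (le_of_eq ?_) (fstar_mono hYH hn)
    exact (fstar_eq_self (rf_le_fstar p G) (self_le_normalizer_rf p G)).symm
  exact mem_centralizer_iff.1 (le_centralizer_iff.1 (hloc a (hER ha) ha1) (hYY hy)) g hg

end Cfsg.Agent.CentRes
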