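import Cfsg.Agent.Lib.CentResidual.Basic
import Cfsg.Agent.Lib.Coprime.Factorization

/-!
The setting: `E` of order `r²` and exponent `r` acts coprimely on `G` and centralises
`O^p(F*(C_G(a)))` for `a ∈ E#`.

* `Setup`, `fix` (`C_G(E)`), `cent` (`C_G(a)`), `big` (the largest `p`-subgroup of `G` invariant
  under `E` and `C_G(E)`)
* `Setup.le_big`, `Setup.le_invSyl`, `Setup.le_big_of_forall_invSyl`
* `Setup.commutator_centralizer_op_le`
* `commute_of_conj`
-/

set_option autoImplicit false
set_option linter.unusedSectionVars false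
set_option linter.style.haveILetI false

open scoped Pointwise commutatorElement

namespace Cfsg.Agent.CentRes

open Subgroup

universe u

variable {X : Type u} [Group X] [Finite X]

/-- The setting. -/
structure Setup (G E : Subgroup X) (p r : ℕ) : Prop where
  three_lt : 3 < p
  prime : r.Prime
  card_E : Nat.card E = r * r
  exp : ∀ a ∈ E, a ^ r = 1
  comm : IsMulCommutative E
  norm : E ≤ normalizer (G : Set X)
  cop : (Nat.card E).Coprime (Nat.card G)
  loc : ∀ a ∈ E, a ≠ 1 →
    E ≤ centralizer ((rf p (G ⊓ centralizer ({a} : Set X)) : Subgroup X) : Set X)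

variable {p r : ℕ} [Fact p.Prime] {G E : Subgroup X}

/-- The `p`-Sylow subgroups of `K` invariant under `E`. -/
def InvSyl (p : ℕ) (E K T : Subgroup X) : Prop :=
  T ≤ K ∧ IsPGroup p T ∧ Nat.card T = p ^ (Nat.card K).factorization p ∧
    E ≤ normalizer (T : Set X)

/-- `C_G(E)`. -/
def fix (G E : Subgroup X) : Subgroup X := G ⊓ centralizer (E : Set X)

/-- `C_G(a)`. -/
def cent (G : Subgroup X) (a : X) : Subgroup X := G ⊓ centralizer ({a} : Set X)

/-- The largest `p`-subgroup of `G` invariant under `E` and `C_G(E)`. -/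
def big (p : ℕ) (G E : Subgroup X) : Subgroup X :=
  sSup {Q | Q ≤ G ∧ IsPGroup p Q ∧ E ≤ normalizer (Q : Set X) ∧ fix G E ≤ normalizer (Q : Set X)}

omit [Fact p.Prime] in
theorem conj_invSyl {K T : Subgroup X} (h : InvSyl p E K T) {g : X}
    (hgK : g ∈ normalizer (K : Set X)) (hgE : g ∈ normalizer (E : Set X)) :
    InvSyl p E K (MulAut.conj g • T) := by
  refine ⟨fun x hx => ?_, h.2.1.of_equiv (Subgroup.equivSMul (MulAut.conj g) T), ?_, fun e he => ?_⟩
  · rw [Coprime.mem_conj] at hx
    have := (mem_normalizer_iff.1 hgK _).1 (h.1 hx)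
    simpa [mul_assoc] using this
  · rw [Coprime.card_conj, h.2.2.1]
  · refine Coprime.mem_normalizer_of_forall fun x hx => ?_
    rw [Coprime.mem_conj] at hx ⊢
    have he' : g⁻¹ * e * g ∈ E := (mem_normalizer_iff''.1 hgE e).1 he
    have h2 := (mem_normalizer_iff.1 (h.2.2.2 he') _).1 hx
    convert h2 using 1
    group

theorem mem_normalizer_of_mem_centralizer {H : Subgroup X} {g : X}
    (hg : g ∈ centralizer (H : Set X)) : g ∈ normalizer (H : Set X) :=
  centralizer_le_normalizer _ hg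

theorem commute_singleton {a g : X} : g ∈ centralizer ({a} : Set X) ↔ a * g = g * a := by
  rw [mem_centralizer_iff]
  simp

/-- A `p'`-element moved only by a commuting `p`-element is fixed. -/
theorem commute_of_conj {e y : X} (hy : (orderOf y).Coprime p)
    (hz : ∃ k, (e * y * e⁻¹ * y⁻¹) ^ p ^ k = 1) (hc : Commute (e * y * e⁻¹ * y⁻¹) y) :
    e * y = y * e := by
  set z := e * y * e⁻¹ * y⁻¹ with hzdef
  obtain ⟨k, hk⟩ := hz
  have h1 : e * y * e⁻¹ = z * y := by rw [hzdef, inv_mul_cancel_right]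
  have h2 : orderOf (e * y * e⁻¹) = orderOf y := (MulAut.conj e).orderOf_eq y
  have h3 : z ^ orderOf y = 1 := by
    have h4 : (z * y) ^ orderOf y = 1 := by rw [← h1, ← h2, pow_orderOf_eq_one]
    rw [hc.mul_pow, pow_orderOf_eq_one, mul_one] at h4
    exact h4
  have h5 : orderOf z = 1 := Nat.eq_one_of_dvd_coprimes (hy.pow_right k)
    (orderOf_dvd_of_pow_eq_one h3) (orderOf_dvd_of_pow_eq_one hk)
  rw [orderOf_eq_one_iff] at h5
  rw [h5, one_mul] at h1
  exact mul_inv_eq_iff_eq_mul.1 h1

namespace Setup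

variable (S : Setup G E p r)
include S

theorem solvable : Group.IsSolvable E :=
  Group.isSolvable_of_comm fun a b => S.comm.1.1 a b

theorem coprime_sub {K : Subgroup X} (hK : K ≤ G) : (Nat.card E).Coprime (Nat.card K) :=
  S.cop.coprime_dvd_right (card_dvd_of_le hK)

theorem not_isCyclic : ¬ IsCyclic E := fun h => by
  obtain ⟨g, hg⟩ := h.exists_generator
  have h1 : orderOf g = Nat.card E := orderOf_eq_card_of_forall_mem_zpowers hg
  have h2 : orderOf g ∣ r := orderOf_dvd_of_pow_eq_one (Subtype.ext (S.exp g g.2))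
  rw [h1, S.card_E] at h2
  have := Nat.le_of_dvd S.prime.pos h2
  nlinarith [S.prime.two_le]

theorem centralizer_le_normalizer_E : centralizer (E : Set X) ≤ normalizer (E : Set X) :=
  centralizer_le_normalizer _

theorem E_le_centralizer {a : X} (ha : a ∈ E) : E ≤ centralizer ({a} : Set X) := fun e he =>
  commute_singleton.2 (congrArg Subtype.val (S.comm.1.1 ⟨a, ha⟩ ⟨e, he⟩))

theorem fix_le_cent {a : X} (ha : a ∈ E) : fix G E ≤ cent G a := fun _ hg =>
  ⟨hg.1, commute_singleton.2 (mem_centralizer_iff.1 hg.2 a ha)⟩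

theorem E_le_normalizer_fix : E ≤ normalizer ((fix G E : Subgroup X) : Set X) := fun e he => by
  refine Coprime.mem_normalizer_of_forall fun x hx => ?_
  rw [show e * x * e⁻¹ = x by rw [mem_centralizer_iff.1 hx.2 e he, mul_inv_cancel_right]]
  exact hx

theorem E_le_normalizer_inf {H K : Subgroup X} (hH : E ≤ normalizer (H : Set X))
    (hK : E ≤ normalizer (K : Set X)) : E ≤ normalizer ((H ⊓ K : Subgroup X) : Set X) := fun e he =>
  Coprime.mem_normalizer_of_forall fun x hx =>
    ⟨(mem_normalizer_iff.1 (hH he) x).1 hx.1, (mem_normalizer_iff.1 (hK he) x).1 hx.2⟩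

theorem E_le_normalizer_centralizer_singleton {a : X} (ha : a ∈ E) :
    E ≤ normalizer ((centralizer ({a} : Set X) : Subgroup X) : Set X) :=
  (S.E_le_centralizer ha).trans le_normalizer

theorem E_le_normalizer_cent {a : X} (ha : a ∈ E) :
    E ≤ normalizer ((cent G a : Subgroup X) : Set X) :=
  S.E_le_normalizer_inf S.norm (S.E_le_normalizer_centralizer_singleton ha)

theorem exists_invSyl {K : Subgroup X} (hK : K ≤ G) (hEK : E ≤ normalizer (K : Set X))
    {U : Subgroup X} (hUK : U ≤ K) (hU : IsPGroup p U) (hUE : E ≤ normalizer (U : Set X)) :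
    ∃ T, U ≤ T ∧ InvSyl p E K T := by
  obtain ⟨T, h1, h2, h4, h3⟩ :=
    Coprime.exists_invariant_card hEK (S.coprime_sub hK) (Or.inl S.solvable) p hUK hU hUE
  exact ⟨T, h1, h2, Coprime.isPGroup_of_card h3, h3, h4⟩

theorem exists_invSyl' {K : Subgroup X} (hK : K ≤ G) (hEK : E ≤ normalizer (K : Set X)) :
    ∃ T, InvSyl p E K T := by
  obtain ⟨T, -, hT⟩ := S.exists_invSyl (p := p) hK hEK (U := ⊥) bot_le IsPGroup.of_bot
    (by rw [normalizer_eq_top_iff.2 (by infer_instance : (⊥ : Subgroup X).Normal)]; exact le_top)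
  exact ⟨T, hT⟩

/-- A `p`-subgroup of `K` invariant under `E` and `C_K(E)` lies in every invariant Sylow subgroup. -/
theorem le_invSyl {K U T : Subgroup X} (hK : K ≤ G) (hEK : E ≤ normalizer (K : Set X))
    (hUK : U ≤ K) (hU : IsPGroup p U) (hUE : E ≤ normalizer (U : Set X))
    (hUC : K ⊓ centralizer (E : Set X) ≤ normalizer (U : Set X)) (hT : InvSyl p E K T) :
    U ≤ T := by
  obtain ⟨T₀, hUT, hT₀⟩ := S.exists_invSyl hK hEK hUK hU hUE
  obtain ⟨c, hc, he⟩ := Coprime.exists_mem_centralizer_conj_of_card hEK (S.coprime_sub hK)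
    (Or.inl S.solvable) hT₀.1 hT.1 hT₀.2.2.2 hT.2.2.2 hT₀.2.2.1 hT.2.2.1
  intro x hx
  have h := hUT ((mem_normalizer_iff.1 (hUC hc) x).1 hx)
  rw [← he, Coprime.mem_conj] at h
  simpa [mul_assoc] using h

theorem le_big {Q : Subgroup X} (h1 : Q ≤ G) (h2 : IsPGroup p Q) (h3 : E ≤ normalizer (Q : Set X))
    (h4 : fix G E ≤ normalizer (Q : Set X)) : Q ≤ big p G E :=
  le_sSup ⟨h1, h2, h3, h4⟩

theorem big_le : big p G E ≤ G := sSup_le fun _ h => h.1

theorem isPGroup_big : IsPGroup p (big p G E) := by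
  obtain ⟨T, hT⟩ := S.exists_invSyl' (p := p) le_rfl S.norm
  exact hT.2.1.to_le (sSup_le fun Q h => S.le_invSyl le_rfl S.norm h.1 h.2.1 h.2.2.1 h.2.2.2 hT)

theorem normalizer_big :
    E ⊔ fix G E ≤ normalizer ((big p G E : Subgroup X) : Set X) := by
  have key : ∀ g : X, (∀ Q : Subgroup X, (Q ≤ G ∧ IsPGroup p Q ∧ E ≤ normalizer (Q : Set X) ∧
      fix G E ≤ normalizer (Q : Set X)) → g ∈ normalizer (Q : Set X)) →
      g ∈ normalizer ((big p G E : Subgroup X) : Set X) := fun g hg => by
    refine Coprime.mem_normalizer_of_forall fun x hx => ?_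
    have hle : big p G E ≤ (big p G E).comap (MulAut.conj g).toMonoidHom :=
      sSup_le fun Q hQ y hy => (le_sSup hQ : Q ≤ _) ((mem_normalizer_iff.1 (hg Q hQ) y).1 hy)
    exact hle hx
  exact sup_le (fun g hg => key g fun Q hQ => hQ.2.2.1 hg) fun g hg => key g fun Q hQ => hQ.2.2.2 hg

theorem E_le_normalizer_big : E ≤ normalizer ((big p G E : Subgroup X) : Set X) :=
  le_sup_left.trans S.normalizer_big

theorem fix_le_normalizer_big : fix G E ≤ normalizer ((big p G E : Subgroup X) : Set X) :=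
  le_sup_right.trans S.normalizer_big

/-- What lies in every invariant Sylow subgroup of `K` lies in `big`. -/
theorem le_big_of_forall_invSyl {K U : Subgroup X} (hK : K ≤ G) (hEK : E ≤ normalizer (K : Set X))
    (hCK : fix G E ≤ normalizer (K : Set X))
    (hU : ∀ T, InvSyl p E K T → U ≤ T) : U ≤ big p G E ⊓ K := by
  obtain ⟨T, hT⟩ := S.exists_invSyl' (p := p) hK hEK
  have hle : sInf {T | InvSyl p E K T} ≤ T := sInf_le hT
  have key : ∀ g : X, g ∈ normalizer (K : Set X) → g ∈ normalizer (E : Set X) →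
      g ∈ normalizer ((sInf {T | InvSyl p E K T} : Subgroup X) : Set X) := fun g hg hgE => by
    refine Coprime.mem_normalizer_of_forall fun x hx => mem_sInf.2 fun T' hT' => ?_
    have h := mem_sInf.1 hx _ (conj_invSyl hT' (inv_mem hg) (inv_mem hgE))
    rw [Coprime.mem_conj] at h
    simpa using h
  have hsInf : sInf {T | InvSyl p E K T} ≤ big p G E := S.le_big ((hle.trans hT.1).trans hK)
    (hT.2.1.to_le hle) (fun e he => key e (hEK he) (le_normalizer he))
    (fun c hc => key c (hCK hc) (S.centralizer_le_normalizer_E hc.2))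
  exact le_inf ((le_sInf fun T' hT' => hU T' hT').trans hsInf) ((hU T hT).trans hT.1)

theorem gen {K W : Subgroup X} (hK : K ≤ G) (hEK : E ≤ normalizer (K : Set X))
    (h : ∀ a ∈ E, a ≠ 1 → K ⊓ centralizer ({a} : Set X) ≤ W) : K ≤ W :=
  haveI := S.comm
  Coprime.le_of_noncyclic S.not_isCyclic hEK (S.coprime_sub hK) h

theorem commutator_commutator {K : Subgroup X} (hK : K ≤ G) (hEK : E ≤ normalizer (K : Set X)) :
    ⁅⁅K, E⁆, E⁆ = ⁅K, E⁆ :=
  Coprime.commutator_commutator_eq hEK (S.coprime_sub hK) (Or.inl S.solvable)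

theorem sup_fix {K : Subgroup X} (hK : K ≤ G) (hEK : E ≤ normalizer (K : Set X)) :
    ⁅K, E⁆ ⊔ (K ⊓ centralizer (E : Set X)) = K :=
  Coprime.commutator_sup_centralizer hEK (S.coprime_sub hK) (Or.inl S.solvable)

omit [Fact p.Prime] in
/-- `[W, E]` centralises a normal subgroup of `W` centralised by `E`. -/
theorem commutator_le_centralizer {W K : Subgroup X} (hW : W ≤ normalizer (K : Set X))
    (hK : E ≤ centralizer (K : Set X)) : ⁅W, E⁆ ≤ centralizer (K : Set X) := by
  have h1 : ⁅E, K⁆ = ⊥ := commutator_eq_bot_iff_le_centralizer.2 hK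
  rw [← commutator_eq_bot_iff_le_centralizer]
  refine commutator_commutator_eq_bot_of_rotate ?_ ?_
  · rw [h1, commutator_bot_left]
  · rw [eq_bot_iff, ← h1, commutator_comm E K]
    exact commutator_mono (le_normalizer_iff_commutator_le_left.1 hW) le_rfl

/-- The consequence of the hypothesis: `[C_D(O_p(D)), E] ≤ O_p(D)`. -/
theorem commutator_centralizer_op_le {D : Subgroup X} (hD : D ≤ G)
    (hED : E ≤ normalizer (D : Set X))
    (hrf : E ≤ centralizer ((rf p D : Subgroup X) : Set X)) :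
    ⁅D ⊓ centralizer ((op p D : Subgroup X) : Set X), E⁆ ≤ op p D := by
  have hEop : E ≤ normalizer ((op p D : Subgroup X) : Set X) := hED.trans (le_normalizer_op p)
  set N := D ⊓ centralizer ((op p D : Subgroup X) : Set X) with hN
  have hEN : E ≤ normalizer (N : Set X) := fun e he => by
    refine Coprime.mem_normalizer_of_forall fun x hx =>
      ⟨(mem_normalizer_iff.1 (hED he) x).1 hx.1, mem_centralizer_iff.2 fun v hv => ?_⟩
    have hv' : e⁻¹ * v * e ∈ op p D := (mem_normalizer_iff''.1 (hEop he) v).1 hv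
    calc v * (e * x * e⁻¹) = e * ((e⁻¹ * v * e) * x) * e⁻¹ := by group
      _ = e * (x * (e⁻¹ * v * e)) * e⁻¹ := by rw [mem_centralizer_iff.1 hx.2 _ hv']
      _ = e * x * e⁻¹ * v := by group
  have hN1 : ⁅N, E⁆ ≤ N := le_normalizer_iff_commutator_le_left.1 hEN
  have hNK : ⁅N, E⁆ ≤ centralizer ((rf p D : Subgroup X) : Set X) :=
    S.commutator_le_centralizer ((inf_le_left : N ≤ D).trans (self_le_normalizer_rf p D)) hrf
  have hF : ⁅N, E⁆ ≤ fstar D := by
    refine fun x hx => centralizer_fstar_inf_le D ⟨(hN1 hx).1, ?_⟩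
    refine mem_centralizer_iff.2 fun y hy => ?_
    have hy' : y ∈ centralizer ({x} : Set X) := by
      refine (fstar_le p D).trans (sup_le ?_ ?_) hy <;> intro z hz <;> refine commute_singleton.2 ?_
      · exact (mem_centralizer_iff.1 (hN1 hx).2 z hz).symm
      · exact (mem_centralizer_iff.1 (hNK hx) z hz).symm
    exact (commute_singleton.1 hy').symm
  rw [← S.commutator_commutator (inf_le_left.trans hD) hEN, commutator_le]
  intro x hx e he
  have hx' := fstar_le p D (hF hx)
  obtain ⟨v, hv, k, hk, rfl⟩ :=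
    (Coprime.mem_sup_iff ((rf_le p D).trans (self_le_normalizer_op p D))).1 hx'
  have hke : ⁅k, e⁆ = 1 :=
    commutatorElement_eq_one_iff_mul_comm.2 (mem_centralizer_iff.1 (hrf he) k hk)
  rw [commutatorElement_mul_left_eq_conj_mul, hke, mul_one, mul_inv_cancel, one_mul]
  exact le_normalizer_iff_commutator_le_left.1 hEop (commutator_mem_commutator hv he)

end Setup

end Cfsg.Agent.CentRes
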